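import Cfsg.Agent.Lib.Fi24Thirteen.Points
import Cfsg.Agent.Lib.Fischer3T30.Unique.Main
import Cfsg.Agent.Lib.Fischer3T30.Facts24Iso
import Cfsg.Agent.Lib.Fischer3T22.Main
import Cfsg.Agent.Lib.Fischer3T98.Exist24

/-!
A type M(24) group is the presented Fi24 with the class of `l`.
-/

set_option autoImplicit false

namespace Cfsg.Agent.Lib.Fi24Thirteen

open Cfsg Cfsg.Agent.Lib Cfsg.Agent.Lib.CosetTable.Lanes

/-- the identification with the presented group -/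
theorem exists_par {G : Type*} [Group G] [Finite G] {D : Set G} (hD : IsThreeTranspositionGroup D)
    (hprim : IsPrimitiveUnderConj D) (h24 : IsOfTypeM24 G D) :
    ∃ e : Cfsg.Spor.Fi24 ≃* G, Par D e := by
  have hfin : Finite Cfsg.Spor.Fi24 := Fi24.finite_fi24
  have hE : IsThreeTranspositionGroup Fischer3T98.Fi24.cls :=
    ⟨Fischer3T98.Fi24.cls_isClass.1, fun g d hd => by
      have h : IsConj (Fi24.gn 0) d := hd
      exact h.trans (isConj_iff.2 ⟨g, rfl⟩), Fischer3T98.Fi24.cls_isClass.2.2⟩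
  have hX₁ := M24Struct51.ctx_of_m24 hE Fischer3T98.Fi24.primitive Fischer3T98.Fi24.isOfTypeM24
  have hX₂ := M24Struct51.ctx_of_m24 hD hprim h24
  obtain ⟨d₂, hd₂⟩ : D.Nonempty := by
    obtain ⟨-, d, hd, -⟩ := h24
    exact ⟨d, hd⟩
  have hd₁ : Fi24.gn 0 ∈ Fischer3T98.Fi24.cls := mem_conjugatesOf_self
  obtain ⟨e, he⟩ := Fischer3T30.Unique.exists_iso_m24 hX₁
    (Fischer3T30.facts24 hE Fischer3T98.Fi24.primitive Fischer3T98.Fi24.isOfTypeM24).notMem_layer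
    hX₂ (Fischer3T30.facts24 hD hprim h24).notMem_layer hd₁ hd₂
    (Fischer3T22.exists_equiv_m23 (M23Struct19.quot_group hE hX₁.good hd₁) (hX₁.prim_down _ hd₁)
      (hX₁.type_down _ hd₁) (M23Struct19.quot_group hD hX₂.good hd₂) (hX₂.prim_down d₂ hd₂)
      (hX₂.type_down d₂ hd₂))
  exact ⟨e, hX₂, he ▸ ⟨_, hd₁, rfl⟩⟩

end Cfsg.Agent.Lib.Fi24Thirteen
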