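import Cfsg.Agent.Lib.Fi24Thirteen.Ops
import Cfsg.Agent.Lib.Fi24Thirteen.Data

/-!
The kernel checks on the action of the presented Fi24 needed for the subgroups of order 13.
-/

set_option maxRecDepth 100000
set_option Elab.async false

namespace Cfsg.Agent.Lib.Fi24Thirteen

open Cfsg.Agent.Lib.CosetTable.Lanes

theorem pathK_ok : sends pathK pL pK = true := by decide +kernel

theorem pathB_ok : sends pathB pL pB = true := by decide +kernel

theorem pathC_ok : sends pathC pL pC = true := by decide +kernel

theorem pairLB_ok : sends [0] pB pB = true := by decide +kernel

theorem pairLC_ok : sends [0] pC pC = true := by decide +kernel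

theorem pairLK_ok : sends [0] pK pLK = true := by decide +kernel

theorem pairKB_ok : sends (conjWord pathK) pB pB = true := by decide +kernel

theorem pairKC_ok : sends (conjWord pathK) pC pC = true := by decide +kernel

theorem pairBC_ok : sends (conjWord pathB) pC pBC = true := by decide +kernel

/-- the four chosen lanes are fixed by the word -/
noncomputable def fixesFour (w : List Nat) : Bool :=
  allB (fun i => sends w i i) [pL, pK, pB, pC]

theorem fixA_ok : fixesFour wordA = true := by decide +kernel

theorem fixB_ok : fixesFour wordB = true := by decide +kernel

theorem fixThirteen_ok : fixesFour wordThirteen = true := by decide +kernel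

theorem swapL_ok : sends wordSwap pL pB = true := by decide +kernel

theorem swapK_ok : sends wordSwap pK pC = true := by decide +kernel

theorem swapB_ok : sends wordSwap pB pL = true := by decide +kernel

theorem swapC_ok : sends wordSwap pC pK = true := by decide +kernel

theorem gensTwo_ok : allB (fun w => allB (fun i => sends w i i) [pL, pK]) gensTwo = true := by
  decide +kernel

theorem gensThree_ok : allB (fun w => allB (fun i => sends w i i) [pL, pK, pB]) gensThree = true := by
  decide +kernel

theorem seqs_ok : (allB (fun i => Nat.blt i gensTwo.length) seqTwo &&
    allB (fun i => Nat.blt i gensThree.length) seqThree) = true := by decide +kernel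

theorem orbitTwo_ok : (increasing orbitTwo && Nat.beq orbitTwo.length 3240 &&
    allB (fun i => Nat.blt i 306936) orbitTwo) = true := by decide +kernel

theorem orbitThree_ok : (increasing orbitThree && Nat.beq orbitThree.length 2160 &&
    allB (fun i => Nat.blt i 306936) orbitThree) = true := by decide +kernel

theorem six_ok : distinct [pL, pK, pLK, pB, pC, pBC] = true := by decide +kernel

theorem lanes351_ok : (distinct lanes351 && Nat.beq lanes351.length 351 &&
    allB (fun i => Nat.blt i 306936) lanes351) = true := by decide +kernel

/-- the element of order 13 on the 351 lanes -/
noncomputable def pairsThirteen : List (Nat × Nat) :=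
  (List.range 351).map fun j => (lanes351.getD j 0, lanes351.getD (permThirteen.getD j 0) 0)

theorem permThirteen_ok : moves wordThirteen pairsThirteen = true := by decide +kernel

/-- thirteen steps -/
noncomputable def stepThirteen (j : Nat) : Nat :=
  Nat.rec (motive := fun _ => Nat) j (fun _ ih => permThirteen.getD ih 0) 13

theorem stepThirteen_ok : allB (fun j => both (Nat.blt (permThirteen.getD j 0) 351)
    (Nat.beq (stepThirteen j) j)) (List.range 351) = true := by decide +kernel

theorem permThirteen_moves : Nat.beq (permThirteen.getD 0 0) 0 = false := by decide +kernel

end Cfsg.Agent.Lib.Fi24Thirteen
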