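import Cfsg.Agent.Lib.Fi24Thirteen.Ops
import Cfsg.Agent.Lib.Fi24Thirteen.Data
import Cfsg.Agent.Lib.Compute.SchurLie.GTwoThreeData

/-!
The two words act on 351 lanes as the generators of G2(3) on 351 points.
-/

set_option maxRecDepth 100000
set_option Elab.async false

namespace Cfsg.Agent.Lib.Fi24Thirteen

open Cfsg.Agent.Lib.CosetTable.Lanes Cfsg.Agent.Lib.Compute Cfsg.Agent.Lib.Compute.SchurLie

/-- images prescribed by a coded permutation -/
noncomputable def pairsOf (c : Nat) : List (Nat × Nat) :=
  (List.range 351).map fun j => (lanes351.getD j 0, lanes351.getD (getP 9 c j) 0)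

theorem actA_ok : moves wordA (pairsOf (g23Gens.getD 0 (0, 0)).1) = true := by
  decide +kernel

theorem actB_ok : moves wordB (pairsOf (g23Gens.getD 1 (0, 0)).1) = true := by
  decide +kernel

theorem g23Code_lt : allB (fun j => both (Nat.blt (getP 9 (g23Gens.getD 0 (0, 0)).1 j) 351)
    (Nat.blt (getP 9 (g23Gens.getD 1 (0, 0)).1 j) 351)) (List.range 351) = true := by decide +kernel

end Cfsg.Agent.Lib.Fi24Thirteen
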