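import Cfsg.Agent.Lib.CosetTable.Lanes.Fi24.EvalDefs

/-!
Checks on words of lane permutations: images of given lanes, reached lanes, fixed lanes.
-/

namespace Cfsg.Agent.Lib.Fi24Thirteen

open Cfsg.Agent.Lib.CosetTable.Lanes

/-- the planes -/
def allPlanes : List Nat := [0, 1, 2, 3, 4, 5, 6, 7, 8, 9, 10, 11, 12, 13, 14, 15, 16, 17, 18]

/-- bit `i` of `y` is bit `b` of `j` -/
noncomputable def bitSame (y i j b : Nat) : Bool :=
  Nat.beq (Nat.land (Nat.shiftRight y i) 1) (Nat.land (Nat.shiftRight j b) 1)

/-- the word sends the lane `i` to the lane `j` -/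
noncomputable def sends (w : List Nat) (i j : Nat) : Bool := Nat.beq (Fi24.wordPt w i) j

/-- the word sends the lane `p.1` to the lane `p.2`, for all `p` in `L` -/
noncomputable def moves (w : List Nat) (L : List (Nat × Nat)) : Bool :=
  allB (fun p => sends w p.1 p.2) L

/-- enlarge a set of lanes along words -/
noncomputable def spread (S : Sys) (ws : List (List Nat)) : Nat → (Nat → Bool) → Bool :=
  List.rec (motive := fun _ => Nat → (Nat → Bool) → Bool) (fun R k => k R)
    (fun w _ ih R k => strict (Nat.lor R (permRun (S.nets w) R)) fun R' => ih R' k) ws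

/-- all lanes of `L` are reached from `p` along `ws` -/
noncomputable def covers (S : Sys) (ws : List (List Nat)) (p : Nat) (L : List Nat) : Bool :=
  spread S ws (Nat.shiftLeft 1 p) fun R => allB (fun i => bitSame R i 1 0) L

/-- the lanes of a list -/
noncomputable def mask (L : List Nat) : Nat :=
  List.rec (motive := fun _ => Nat) 0 (fun i _ ih => Nat.lor (Nat.shiftLeft 1 i) ih) L

/-- lanes moved by the word, seen on the planes `bs` -/
noncomputable def moved (S : Sys) (w : List Nat) (bs : List Nat) : Nat → (Nat → Bool) → Bool :=
  List.rec (motive := fun _ => Nat → (Nat → Bool) → Bool) (fun acc k => k acc)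
    (fun b _ ih acc k => strict (plane b (Nat.sub 18 b)) fun P =>
      strict (Nat.lor acc (Nat.xor (permRun (S.nets w) P) P)) fun acc' => ih acc' k) bs

/-- the word fixes only lanes of `L` -/
noncomputable def fixesOnly (S : Sys) (w : List Nat) (L : List Nat) : Bool :=
  moved S w allPlanes (mask L) fun acc => Nat.beq (Nat.land acc S.full) S.full

/-- strictly increasing -/
noncomputable def increasing (L : List Nat) : Bool :=
  List.rec (motive := fun _ => Nat → Bool) (fun _ => true)
    (fun x _ ih low => both (Nat.ble low x) (ih (Nat.succ x))) L 0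

/-- pairwise distinct -/
noncomputable def distinct (L : List Nat) : Bool :=
  List.rec (motive := fun _ => Bool) true
    (fun x xs ih => both (allB (fun y => Bool.rec true false (Nat.beq x y)) xs) ih) L

/-- a sequence of words chosen from a list -/
def pick (ws : List (List Nat)) (seq : List Nat) : List (List Nat) := seq.map fun i => ws.getD i []

/-- a word between a word and its reverse -/
def conjWord (u : List Nat) : List Nat := u ++ [0] ++ u.reverse

end Cfsg.Agent.Lib.Fi24Thirteen
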