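import Cfsg.Agent.Lib.CosetTable.Lanes.Fi24.Sys
import Cfsg.Agent.Lib.Fi24Thirteen.Ops
import Cfsg.Agent.Lib.Fi24Thirteen.Data

/-!
Kernel checks on sets of lanes of the presented Fi24 for the subgroups of order 13.
-/

set_option maxRecDepth 100000
set_option Elab.async false

namespace Cfsg.Agent.Lib.Fi24Thirteen

open Cfsg.Agent.Lib.CosetTable.Lanes

theorem coversTwo_ok : covers Fi24.sys (pick gensTwo seqTwo) pB orbitTwo = true := by
  decide +kernel

theorem coversThree_ok : covers Fi24.sys (pick gensThree seqThree) pC orbitThree = true := by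
  decide +kernel

theorem fixedSix_ok : fixesOnly Fi24.sys wordThirteen [pL, pK, pLK, pB, pC, pBC] = true := by
  decide +kernel

end Cfsg.Agent.Lib.Fi24Thirteen
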