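import Mathlib
import Cfsg.Agent.Lib.CosetTable.Lanes.Fi24.Eval
import Cfsg.Agent.Lib.Fi24Thirteen.Ops

/-!
What the checks on lane permutations say.
-/

namespace Cfsg.Agent.Lib.Fi24Thirteen

open Cfsg.Agent.Lib.CosetTable.Lanes

theorem allB_mem {α : Type} {f : α → Bool} {l : List α} (h : allB f l = true) {x : α}
    (hx : x ∈ l) : f x = true := (allB_iff f l).1 h x hx

theorem mem_allPlanes : ∀ b, b < 19 → b ∈ allPlanes := by decide

theorem planes_lt : ∀ b ∈ allPlanes, b < 19 := by decide

theorem bitSame_iff {y i j b : ℕ} : bitSame y i j b = true ↔ y.testBit i = j.testBit b := by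
  have h1 : ∀ x : ℕ, x &&& 1 = x % 2 := fun x => by simp
  show Nat.beq (Nat.land (y >>> i) 1) (Nat.land (j >>> b) 1) = true ↔ _
  rw [Nat.beq_eq, show Nat.land (y >>> i) 1 = (y >>> i) % 2 from h1 _,
    show Nat.land (j >>> b) 1 = (j >>> b) % 2 from h1 _, Nat.testBit_eq_decide_div_mod_eq,
    Nat.testBit_eq_decide_div_mod_eq, Nat.shiftRight_eq_div_pow, Nat.shiftRight_eq_div_pow,
    decide_eq_decide]
  omega

theorem nets_ok_word : ∀ w : List ℕ, permOK Fi24.sys.size (Fi24.sys.nets w)
  | [] => fun n hn => (List.not_mem_nil hn).elim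
  | g :: w => fun n hn => by
    rw [Fi24.sys.nets_cons, List.mem_append] at hn
    exact hn.elim (Fi24.perm_ok g n) (nets_ok_word w n)

theorem sends_spec {w : List ℕ} (hw : ∀ g ∈ w, g < 12) {i j : Fin Fi24.sys.size}
    (h : sends w i.val j.val = true) : pw Fi24.perm w i = j :=
  Fin.ext (by rw [Fi24.perm_pw_apply, ← (Fi24.wordPt_eq w hw i i.2).1]; exact Nat.eq_of_beq_eq_true h)

theorem moves_spec {w : List ℕ} (hw : ∀ g ∈ w, g < 12) {L : List (ℕ × ℕ)} (h : moves w L = true)
    {i j : Fin Fi24.sys.size} (hm : (i.val, j.val) ∈ L) : pw Fi24.perm w i = j :=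
  sends_spec hw (allB_mem h hm)

theorem spread_spec {P : Fin Fi24.sys.size → Prop} : ∀ (ws : List (List ℕ)) (R : ℕ) (k : ℕ → Bool),
    (∀ i : Fin Fi24.sys.size, R.testBit i.val = true → P i) →
    (∀ w ∈ ws, ∀ i, P (pw Fi24.perm w i) → P i) → spread Fi24.sys ws R k = true →
    ∃ R', (∀ i : Fin Fi24.sys.size, R'.testBit i.val = true → P i) ∧ k R' = true
  | [], R, k, hR, _, h => ⟨R, hR, h⟩
  | w :: ws, R, k, hR, hw, h => by
    have h' : spread Fi24.sys ws (R ||| permRun (Fi24.sys.nets w) R) k = true := by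
      have e : spread Fi24.sys (w :: ws) R k =
          strict (Nat.lor R (permRun (Fi24.sys.nets w) R)) fun R' => spread Fi24.sys ws R' k := rfl
      rw [e, strict_eq] at h
      exact h
    refine spread_spec ws _ k (fun i hi => ?_) (fun v hv => hw v (List.mem_cons_of_mem _ hv)) h'
    rw [Nat.testBit_or, Bool.or_eq_true, testBit_permRun (nets_ok_word w),
      ← Fi24.perm_pw_apply] at hi
    exact hi.elim (hR i) fun h2 => hw w List.mem_cons_self i (hR _ h2)

theorem covers_spec {P : Fin Fi24.sys.size → Prop} {ws : List (List ℕ)} {p : Fin Fi24.sys.size}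
    {L : List ℕ} (hp : P p) (hw : ∀ w ∈ ws, ∀ i, P (pw Fi24.perm w i) → P i)
    (h : covers Fi24.sys ws p.val L = true) {i : Fin Fi24.sys.size} (hi : i.val ∈ L) : P i := by
  obtain ⟨R, hR, hk⟩ := spread_spec (P := P) ws _ _ (fun j hj => by
    have h1 : (1 <<< p.val).testBit j.val = true := hj
    rw [Nat.one_shiftLeft, Nat.testBit_two_pow, decide_eq_true_eq] at h1
    rwa [← Fin.ext h1]) hw h
  exact hR i ((bitSame_iff.1 (allB_mem hk hi)).trans (by simp))

theorem testBit_mask {i : ℕ} : ∀ L : List ℕ, (mask L).testBit i = true → i ∈ L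
  | [], h => by simp [mask] at h
  | x :: L, h => by
    have e : mask (x :: L) = (1 <<< x) ||| mask L := rfl
    rw [e, Nat.testBit_or, Bool.or_eq_true, Nat.one_shiftLeft, Nat.testBit_two_pow,
      decide_eq_true_eq] at h
    rcases h with h | h
    · exact h ▸ List.mem_cons_self
    · exact List.mem_cons_of_mem _ (testBit_mask L h)

theorem moved_spec {w : List ℕ} {i : Fin Fi24.sys.size} (hfix : pw Fi24.perm w i = i) :
    ∀ (bs : List ℕ) (acc : ℕ) (k : ℕ → Bool), (∀ b ∈ bs, b < 19) → moved Fi24.sys w bs acc k = true →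
    ∃ acc', acc'.testBit i.val = acc.testBit i.val ∧ k acc' = true
  | [], acc, k, _, h => ⟨acc, rfl, h⟩
  | b :: bs, acc, k, hb, h => by
    have e : moved Fi24.sys w (b :: bs) acc k = strict (plane b (Nat.sub 18 b)) fun P =>
        strict (Nat.lor acc (Nat.xor (permRun (Fi24.sys.nets w) P) P)) fun acc' =>
          moved Fi24.sys w bs acc' k := rfl
    rw [e, strict_eq, strict_eq] at h
    obtain ⟨acc', h1, h2⟩ := moved_spec hfix bs _ k (fun c hc => hb c (List.mem_cons_of_mem _ hc)) h
    refine ⟨acc', h1.trans ?_, h2⟩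
    show (acc ||| (permRun (Fi24.sys.nets w) (plane b (18 - b)) ^^^ plane b (18 - b))).testBit i.val = _
    rw [Nat.testBit_or, Nat.testBit_xor, testBit_permRun (nets_ok_word w), ← Fi24.perm_pw_apply,
      hfix]
    simp

theorem fixesOnly_spec {w L : List ℕ} (h : fixesOnly Fi24.sys w L = true) {i : Fin Fi24.sys.size}
    (hfix : pw Fi24.perm w i = i) : i.val ∈ L := by
  obtain ⟨acc, h1, h2⟩ := moved_spec hfix allPlanes _ _ planes_lt h
  refine testBit_mask L (h1.symm.trans ?_)
  have hfull : Fi24.sys.full.testBit i.val = true := by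
    rw [testBit_full]
    exact decide_eq_true i.2
  have h3 := congrArg (fun z => Nat.testBit z i.val) (Nat.eq_of_beq_eq_true h2)
  exact (Bool.and_eq_true_iff.1 (((Nat.testBit_and _ _ _).symm.trans h3).trans hfull)).1

theorem distinct_nodup : ∀ L : List ℕ, distinct L = true → L.Nodup
  | [], _ => List.nodup_nil
  | x :: L, h => by
    have h' : both (allB (fun y => Bool.rec true false (Nat.beq x y)) L) (distinct L) = true := h
    rw [both_eq, Bool.and_eq_true] at h'
    refine List.nodup_cons.2 ⟨fun hx => ?_, distinct_nodup L h'.2⟩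
    have := allB_mem h'.1 hx
    simp at this

theorem increasing_aux : ∀ (L : List ℕ) (low : ℕ),
    (List.rec (motive := fun _ => ℕ → Bool) (fun _ => true)
      (fun x _ ih low => both (Nat.ble low x) (ih (Nat.succ x))) L low) = true →
    L.Nodup ∧ ∀ x ∈ L, low ≤ x
  | [], _, _ => ⟨List.nodup_nil, fun x hx => absurd hx List.not_mem_nil⟩
  | y :: L, low, h0 => by
    have h : both (Nat.ble low y) ((List.rec (motive := fun _ => ℕ → Bool) (fun _ => true)
      (fun x _ ih low => both (Nat.ble low x) (ih (Nat.succ x))) L) (Nat.succ y)) = true := h0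
    rw [both_eq, Bool.and_eq_true] at h
    obtain ⟨h1, h2⟩ := increasing_aux L (y + 1) h.2
    have hy : low ≤ y := Nat.le_of_ble_eq_true h.1
    refine ⟨List.nodup_cons.2 ⟨fun hm => absurd (h2 y hm) (by omega), h1⟩, fun x hx => ?_⟩
    rcases List.mem_cons.1 hx with rfl | hx
    · exact hy
    · have := h2 x hx; omega

theorem increasing_nodup {L : List ℕ} (h : increasing L = true) : L.Nodup :=
  (increasing_aux L 0 h).1

theorem mem_pick {ws : List (List ℕ)} {seq : List ℕ}
    (h : allB (fun i => Nat.blt i ws.length) seq = true) {w : List ℕ} (hw : w ∈ pick ws seq) :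
    w ∈ ws := by
  obtain ⟨i, hi, rfl⟩ := List.mem_map.1 hw
  have hlt : i < ws.length := by simpa [Nat.blt_eq] using allB_mem h hi
  rw [List.getD_eq_getElem _ _ hlt]
  exact List.getElem_mem hlt

end Cfsg.Agent.Lib.Fi24Thirteen
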