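import Cfsg.Agent.Lib.Fi24Thirteen.Points
import Cfsg.Agent.Lib.Fi24Thirteen.Sound
import Cfsg.Agent.Lib.Fi24Thirteen.Checks
import Cfsg.Agent.Lib.Fi24Thirteen.ChecksSets

/-!
Two commuting pairs `a, d` and `b, c` in the class, and the order bound on their joint centraliser.
-/

set_option autoImplicit false

namespace Cfsg.Agent.Lib.Fi24Thirteen

open Cfsg Cfsg.Agent.Lib.CosetTable.Lanes
open Cfsg.Agent.Lib.M22Struct66 (nb com2)

universe u

/-- `n` conjugates of `y` under `H` bound the centraliser of `y` in `H`. -/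
theorem card_inf_centralizer_mul_le {G : Type u} [Group G] [Finite G] (H : Subgroup G) (y : G) (S : Set G)
    (hS : ∀ s ∈ S, ∃ h ∈ H, h * y * h⁻¹ = s) :
    Nat.card ↥(H ⊓ Subgroup.centralizer ({y} : Set G)) * S.ncard ≤ Nat.card H := by
  classical
  set C := (Subgroup.centralizer ({y} : Set G)).subgroupOf H with hC
  have hcard : Nat.card ↥(H ⊓ Subgroup.centralizer ({y} : Set G)) = Nat.card C := by
    rw [inf_comm, ← Subgroup.subgroupOf_map_subtype,
      Subgroup.card_map_of_injective H.subtype_injective]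
  have hle : S.ncard ≤ C.index := by
    rw [← Nat.card_coe_set_eq, Subgroup.index]
    refine Nat.card_le_card_of_injective
      (fun s : S => ((⟨(hS _ s.2).choose, (hS _ s.2).choose_spec.1⟩ : H) : H ⧸ C)) ?_
    rintro ⟨s, hs⟩ ⟨t, ht⟩ h
    obtain ⟨h1, h2⟩ := (hS s hs).choose_spec
    obtain ⟨k1, k2⟩ := (hS t ht).choose_spec
    have hm := (Subgroup.mem_centralizer_singleton_iff.1
      (Subgroup.mem_subgroupOf.1 (QuotientGroup.eq.1 h)))
    simp only [Subgroup.coe_mul, Subgroup.coe_inv] at hm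
    refine Subtype.ext (show s = t from ?_)
    rw [← h2, ← k2]
    set p := (hS s hs).choose
    set q := (hS t ht).choose
    calc p * y * p⁻¹ = p * (y * (p⁻¹ * q)) * q⁻¹ := by group
      _ = p * (p⁻¹ * q * y) * q⁻¹ := by rw [hm]
      _ = q * y * q⁻¹ := by group
  rw [hcard]
  calc Nat.card C * S.ncard ≤ Nat.card C * C.index := Nat.mul_le_mul_left _ hle
    _ = Nat.card H := C.card_mul_index

/-- lanes as points -/
abbrev Lane := Fin Fi24.sys.size

/-- the lane of `l` -/
def laneL : Lane := ⟨pL, by decide⟩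
/-- a lane -/
def laneK : Lane := ⟨pK, by decide⟩
/-- a lane -/
def laneB : Lane := ⟨pB, by decide⟩
/-- a lane -/
def laneC : Lane := ⟨pC, by decide⟩
/-- a lane -/
def laneLK : Lane := ⟨pLK, by decide⟩
/-- a lane -/
def laneBC : Lane := ⟨pBC, by decide⟩

theorem laneL_eq : laneL = Fi24.pt := rfl

theorem words_lt : ∀ w ∈ [pathK, pathB, pathC, wordA, wordB, wordThirteen, wordSwap, [0]],
    ∀ g ∈ w, g < 12 := by decide +kernel

theorem gens_lt : ∀ w ∈ gensTwo ++ gensThree, ∀ g ∈ w, g < 12 := by decide +kernel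

theorem lanes_ne : laneL ≠ laneK ∧ laneL ≠ laneB ∧ laneL ≠ laneC ∧ laneK ≠ laneB ∧
    laneK ≠ laneC ∧ laneB ≠ laneC ∧ laneK ≠ laneLK ∧ laneC ≠ laneBC := by
  decide

variable {G : Type u} [Group G] {e : Cfsg.Spor.Fi24 ≃* G}

/-- the image of a word -/
noncomputable def el (e : Cfsg.Spor.Fi24 ≃* G) (w : List ℕ) : G := e (pw Fi24.gn w)

theorem el_conj_pt {w : List ℕ} (hw : ∀ g ∈ w, g < 12) (i : Lane) :
    el e w * pt e i * (el e w)⁻¹ = pt e (pw Fi24.perm w i) := by
  rw [el, Par.conj_pt, phi_pw hw]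

theorem moves_el {w : List ℕ} (hw : ∀ g ∈ w, g < 12) {L : List (ℕ × ℕ)}
    (h : moves w L = true) {i j : Lane} (hm : (i.val, j.val) ∈ L) :
    el e w * pt e i * (el e w)⁻¹ = pt e j := by
  rw [el_conj_pt hw, moves_spec hw h hm]

theorem sends_el {w : List ℕ} (hw : ∀ g ∈ w, g < 12) {i j : Lane}
    (h : sends w i.val j.val = true) : el e w * pt e i * (el e w)⁻¹ = pt e j := by
  rw [el_conj_pt hw, sends_spec hw h]

theorem el_comm {w : List ℕ} (hw : ∀ g ∈ w, g < 12) {i : Lane}
    (h : sends w i.val i.val = true) : el e w * pt e i = pt e i * el e w :=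
  mul_inv_eq_iff_eq_mul.1 (sends_el hw h)

theorem pw_reverse : ∀ w : List ℕ, pw Fi24.gn w.reverse = (pw Fi24.gn w)⁻¹
  | [] => by simp [pw]
  | g :: w => by
    rw [List.reverse_cons, pw_append, pw_reverse w, pw_cons, pw_cons, pw_nil, mul_one, mul_inv_rev,
      Fi24.gn_inv]

theorem el_conjWord {w : List ℕ} (hw : ∀ g ∈ w, g < 12) {j : Lane}
    (h : sends w pL j.val = true) : el e (conjWord w) = pt e j := by
  have h1 := sends_el (e := e) hw (i := laneL) (j := j) h
  rw [laneL_eq, Par.pt_base] at h1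
  rw [← h1, el, el, conjWord, pw_append, pw_append, pw_reverse, pw_cons, pw_nil, mul_one, map_mul,
    map_mul, map_inv]

theorem conjWord_lt {w : List ℕ} (hw : ∀ g ∈ w, g < 12) : ∀ g ∈ conjWord w, g < 12 := by
  intro g hg
  simp only [conjWord, List.mem_append, List.mem_reverse, List.mem_singleton] at hg
  rcases hg with (hg | hg) | hg
  · exact hw g hg
  · omega
  · exact hw g hg

/-- the six transpositions used -/
theorem pt_relations (e : Cfsg.Spor.Fi24 ≃* G) :
    pt e laneL * pt e laneB = pt e laneB * pt e laneL ∧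
    pt e laneL * pt e laneC = pt e laneC * pt e laneL ∧
    pt e laneK * pt e laneB = pt e laneB * pt e laneK ∧
    pt e laneK * pt e laneC = pt e laneC * pt e laneK ∧
    pt e laneL * pt e laneK * (pt e laneL)⁻¹ = pt e laneLK ∧
    pt e laneB * pt e laneC * (pt e laneB)⁻¹ = pt e laneBC := by
  have hl : el e [0] = pt e laneL := by
    rw [laneL_eq, Par.pt_base, el, pw_cons, pw_nil, mul_one]
  have hk : el e (conjWord pathK) = pt e laneK := el_conjWord (words_lt _ (by simp)) pathK_ok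
  have hb : el e (conjWord pathB) = pt e laneB := el_conjWord (words_lt _ (by simp)) pathB_ok
  have h0 : ∀ g ∈ [0], g < 12 := by simp
  refine ⟨?_, ?_, ?_, ?_, ?_, ?_⟩
  · rw [← hl]; exact el_comm h0 pairLB_ok
  · rw [← hl]; exact el_comm h0 pairLC_ok
  · rw [← hk]; exact el_comm (conjWord_lt (words_lt _ (by simp))) pairKB_ok
  · rw [← hk]; exact el_comm (conjWord_lt (words_lt _ (by simp))) pairKC_ok
  · rw [← hl]; exact sends_el h0 pairLK_ok
  · rw [← hb]; exact sends_el (conjWord_lt (words_lt _ (by simp))) pairBC_ok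

/-- the joint centraliser -/
def kGroup (e : Cfsg.Spor.Fi24 ≃* G) : Subgroup G :=
  Subgroup.centralizer ({pt e laneL, pt e laneK, pt e laneB, pt e laneC} : Set G)

theorem mem_kGroup {g : G} : g ∈ kGroup e ↔ g * pt e laneL = pt e laneL * g ∧
    g * pt e laneK = pt e laneK * g ∧ g * pt e laneB = pt e laneB * g ∧
    g * pt e laneC = pt e laneC * g := by
  simp only [kGroup, Subgroup.mem_centralizer_iff, Set.mem_insert_iff, Set.mem_singleton_iff,
    forall_eq_or_imp, forall_eq]
  exact ⟨fun ⟨a, b, c, d⟩ => ⟨a.symm, b.symm, c.symm, d.symm⟩,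
    fun ⟨a, b, c, d⟩ => ⟨a.symm, b.symm, c.symm, d.symm⟩⟩

namespace Par

variable [Finite G] {D : Set G} (hP : Par D e)
include hP

theorem ncard_far {a : G} (ha : a ∈ D) :
    275264 ≤ {y : G | y ∈ D ∧ ¬ Commute a y}.ncard := by
  have h1 : ({y : G | y ∈ D ∧ ¬ Commute a y} ∪ insert a (nb D a)) = D := by
    ext y
    refine ⟨?_, fun hy => ?_⟩
    · rintro (h | rfl | h)
      exacts [h.1, ha, h.1]
    · by_cases hc : Commute a y
      · by_cases he : y = a
        · exact Or.inr (Or.inl he)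
        · exact Or.inr (Or.inr ⟨hy, he, hc⟩)
      · exact Or.inl ⟨hy, hc⟩
  have h2 := Set.ncard_union_le {y : G | y ∈ D ∧ ¬ Commute a y} (insert a (nb D a))
  rw [h1, hP.ctx.ncard_D] at h2
  have h3 := Set.ncard_insert_le a (nb D a)
  rw [hP.ctx.ncard_nb ha] at h3
  omega

theorem spread_orbit {H : Subgroup G} {ws : List (List ℕ)} (hlt : ∀ w ∈ ws, ∀ g ∈ w, g < 12)
    (hH : ∀ w ∈ ws, el e w ∈ H) {p : Lane} {L : List ℕ} {n : ℕ}
    (hc : covers Fi24.sys ws p.val L = true) (hinc : increasing L = true) (hlen : L.length = n)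
    (hb : ∀ i ∈ L, i < Fi24.sys.size) :
    Nat.card ↥(H ⊓ Subgroup.centralizer ({pt e p} : Set G)) * n ≤ Nat.card H := by
  classical
  let S : Finset Lane := L.toFinset.attach.image fun x => ⟨x.1, hb _ (List.mem_toFinset.1 x.2)⟩
  have hcard : S.card = n := by
    rw [Finset.card_image_of_injective _ (fun a b h => Subtype.ext (Fin.ext_iff.1 h)),
      Finset.card_attach, List.toFinset_card_of_nodup (increasing_nodup hinc), hlen]
  have hS : ((S : Set Lane).image (pt e)).ncard = n := by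
    rw [Set.ncard_image_of_injective _ hP.pt_injective, Set.ncard_coe_finset, hcard]
  refine hS ▸ card_inf_centralizer_mul_le H (pt e p) _ ?_
  rintro _ ⟨i, hi, rfl⟩
  have hi' : i.val ∈ L := by
    obtain ⟨x, -, rfl⟩ := Finset.mem_image.1 (Finset.mem_coe.1 hi)
    exact List.mem_toFinset.1 x.2
  refine covers_spec (P := fun j => ∃ h ∈ H, h * pt e p * h⁻¹ = pt e j) ⟨1, one_mem H, by simp⟩
    (fun w hw j hj => ?_) hc hi'
  obtain ⟨h, hh, hj⟩ := hj
  refine ⟨(el e w)⁻¹ * h, mul_mem (inv_mem (hH w hw)) hh, ?_⟩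
  rw [← el_conj_pt (hlt w hw) j] at hj
  calc (el e w)⁻¹ * h * pt e p * ((el e w)⁻¹ * h)⁻¹
      = (el e w)⁻¹ * (h * pt e p * h⁻¹) * el e w := by group
    _ = pt e j := by rw [hj]; group

theorem not_commute_LK : ¬ Commute (pt e laneL) (pt e laneK) := fun h =>
  lanes_ne.2.2.2.2.2.2.1 (hP.pt_injective (by rw [← (pt_relations e).2.2.2.2.1, h.eq]; group))

theorem not_commute_BC : ¬ Commute (pt e laneB) (pt e laneC) := fun h =>
  lanes_ne.2.2.2.2.2.2.2 (hP.pt_injective (by rw [← (pt_relations e).2.2.2.2.2, h.eq]; group))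

/-- the joint centraliser has at most the order of G2(3) -/
theorem card_kGroup_le : Nat.card (kGroup e) ≤ 4245696 := by
  set a := pt e laneL
  set d := pt e laneK
  have ha : a ∈ D := hP.pt_mem _
  have hd : d ∈ D := hP.pt_mem _
  have hA : ∀ y : G, ¬ Commute a y → y ∈ D → ∃ h ∈ Subgroup.centralizer ({a} : Set G),
      h * d * h⁻¹ = y := fun y hn hy => by
    obtain ⟨g, hg, he⟩ := hP.ctx.transitive_outside ha hd hy hP.not_commute_LK hn
    exact ⟨g, Subgroup.mem_centralizer_singleton_iff.2 hg.eq, he⟩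
  have h1 := card_inf_centralizer_mul_le (Subgroup.centralizer ({a} : Set G)) d
    {y : G | y ∈ D ∧ ¬ Commute a y} (fun y hy => hA y hy.2 hy.1)
  rw [hP.ctx.card_centralizer ha] at h1
  have h1' : Nat.card ↥(Subgroup.centralizer ({a} : Set G) ⊓ Subgroup.centralizer ({d} : Set G)) * 275264
      ≤ 8178940946586009600 := le_trans (Nat.mul_le_mul_left _ (hP.ncard_far ha)) h1
  have o2 := orbitTwo_ok
  have o3 := orbitThree_ok
  simp only [Bool.and_eq_true] at o2 o3
  have hq := seqs_ok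
  simp only [Bool.and_eq_true] at hq
  have hm2 : ∀ w ∈ pick gensTwo seqTwo, w ∈ gensTwo := fun w hw => mem_pick hq.1 hw
  have hm3 : ∀ w ∈ pick gensThree seqThree, w ∈ gensThree := fun w hw => mem_pick hq.2 hw
  have hlt2 : ∀ w ∈ pick gensTwo seqTwo, ∀ g ∈ w, g < 12 := fun w hw =>
    gens_lt w (List.mem_append_left _ (hm2 w hw))
  have hlt3 : ∀ w ∈ pick gensThree seqThree, ∀ g ∈ w, g < 12 := fun w hw =>
    gens_lt w (List.mem_append_right _ (hm3 w hw))
  have hf2 : ∀ w ∈ pick gensTwo seqTwo, ∀ i : Lane, i.val ∈ [pL, pK] →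
      el e w * pt e i = pt e i * el e w := fun w hw i hi =>
    el_comm (hlt2 w hw) (allB_mem (allB_mem gensTwo_ok (hm2 w hw)) hi)
  have hf3 : ∀ w ∈ pick gensThree seqThree, ∀ i : Lane, i.val ∈ [pL, pK, pB] →
      el e w * pt e i = pt e i * el e w := fun w hw i hi =>
    el_comm (hlt3 w hw) (allB_mem (allB_mem gensThree_ok (hm3 w hw)) hi)
  have h2 := hP.spread_orbit
    (H := Subgroup.centralizer ({a} : Set G) ⊓ Subgroup.centralizer ({d} : Set G))
    hlt2 (fun w hw => ⟨Subgroup.mem_centralizer_singleton_iff.2 (hf2 w hw laneL (by decide)),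
      Subgroup.mem_centralizer_singleton_iff.2 (hf2 w hw laneK (by decide))⟩)
    (p := laneB) coversTwo_ok o2.1.1 (Nat.eq_of_beq_eq_true o2.1.2)
    (fun i hi => by simpa [Fi24.size_eq, Nat.blt_eq] using allB_mem o2.2 hi)
  have h3 := hP.spread_orbit
    (H := Subgroup.centralizer ({a} : Set G) ⊓ Subgroup.centralizer ({d} : Set G) ⊓
      Subgroup.centralizer ({pt e laneB} : Set G))
    hlt3 (fun w hw => ⟨⟨Subgroup.mem_centralizer_singleton_iff.2 (hf3 w hw laneL (by decide)),
      Subgroup.mem_centralizer_singleton_iff.2 (hf3 w hw laneK (by decide))⟩,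
      Subgroup.mem_centralizer_singleton_iff.2 (hf3 w hw laneB (by decide))⟩)
    (p := laneC) coversThree_ok o3.1.1 (Nat.eq_of_beq_eq_true o3.1.2)
    (fun i hi => by simpa [Fi24.size_eq, Nat.blt_eq] using allB_mem o3.2 hi)
  have hsub : Nat.card (kGroup e) ≤ Nat.card ↥(Subgroup.centralizer ({a} : Set G) ⊓
      Subgroup.centralizer ({d} : Set G) ⊓ Subgroup.centralizer ({pt e laneB} : Set G) ⊓
      Subgroup.centralizer ({pt e laneC} : Set G)) := by
    refine Subgroup.card_le_of_le fun g hg => ?_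
    obtain ⟨p, q, r, s⟩ := mem_kGroup.1 hg
    exact ⟨⟨⟨Subgroup.mem_centralizer_singleton_iff.2 p, Subgroup.mem_centralizer_singleton_iff.2 q⟩,
      Subgroup.mem_centralizer_singleton_iff.2 r⟩, Subgroup.mem_centralizer_singleton_iff.2 s⟩
  omega

end Par

end Cfsg.Agent.Lib.Fi24Thirteen
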