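import Cfsg.Agent.Lib.Fi24Thirteen.Frame
import Cfsg.Agent.Lib.Fi24Thirteen.Checks351
import Cfsg.Agent.Lib.Compute.ActionImage
import Cfsg.Agent.Lib.Compute.SchurLie.GTwoThreeActs
import Cfsg.Agent.Lib.G2Three.Graph
import Cfsg.Agent.Lib.G2Natural.Transport
import Cfsg.Agent.S1059

/-!
The joint centraliser of the two pairs is the group of type G2 over the field with three elements.
-/

set_option autoImplicit false

namespace Cfsg.Agent.Lib.Fi24Thirteen

open Cfsg Cfsg.Agent.Lib Cfsg.Agent.Lib.CosetTable.Lanes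
open Cfsg.Agent.Lib.Compute Cfsg.Agent.Lib.Compute.SchurLie

universe u

/-- A group of at most the order of the certified group, with elements acting as its generators, is
isomorphic to it and faithful on the points. -/
theorem iso_and_faithful {G β : Type*} [Group G] [MulAction G β] {n w : ℕ} (hw : n ≤ 2 ^ w)
    (H : Subgroup G) [Finite H]
    (pts : Fin n → β) (hinj : Function.Injective pts) (gs : List G) (hH : ∀ g ∈ gs, g ∈ H)
    {S : List (ℕ × ℕ)} (hacts : ActsBy w pts gs S)
    (hcard : Nat.card H ≤ Nat.card (genGroup (permCoding w (Equiv.refl (Fin n)) hw) S)) :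
    Nonempty (H ≃* genGroup (permCoding w (Equiv.refl (Fin n)) hw) S) ∧
      ∀ h ∈ H, (∀ j, h • pts j = pts j) → h = 1 := by
  obtain ⟨hlen, hacts⟩ := hacts
  let H0 : Subgroup G := Subgroup.closure {g | g ∈ gs}
  have hle : H0 ≤ H := (Subgroup.closure_le _).2 hH
  have hpres : H0 ≤ presGroup pts := by
    refine (Subgroup.closure_le _).2 fun g hg j => ?_
    obtain ⟨i, hi, rfl⟩ := List.getElem_of_mem hg
    obtain ⟨h, he⟩ := hacts i _ _ (List.getElem?_eq_getElem hi)
      (List.getElem?_eq_getElem (hlen ▸ hi)) j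
    exact ⟨_, he⟩
  let f : H0 →* Equiv.Perm (Fin n) := (presHom pts hinj).comp (Subgroup.inclusion hpres)
  have hgen : genGroup (permCoding w (Equiv.refl (Fin n)) hw) S ≤ f.range := by
    refine (Subgroup.closure_le _).2 ?_
    rintro σ ⟨p, hp, hσ⟩
    obtain ⟨i, hi, rfl⟩ := List.getElem_of_mem hp
    have hi' : i < gs.length := hlen ▸ hi
    refine ⟨⟨gs[i], Subgroup.subset_closure (List.getElem_mem hi')⟩, Equiv.ext fun j => ?_⟩
    obtain ⟨h, he⟩ := hacts i _ _ (List.getElem?_eq_getElem hi') (List.getElem?_eq_getElem hi) j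
    refine hinj (((presHom_spec pts hinj _ j).symm).trans (he.trans (congrArg pts ?_)))
    refine Fin.ext ?_
    show getP w S[i].1 j = _
    rw [← hσ, permCoding_enc, getP_encP hw _ _ j.isLt]
    simp [imgP]
  have : Finite H0 := Finite.of_injective _ (Subgroup.inclusion_injective hle)
  have hrange : Nat.card f.range ≤ Nat.card H0 :=
    Nat.card_le_card_of_surjective f.rangeRestrict f.rangeRestrict_surjective
  have h1 := Subgroup.card_le_of_le hgen
  have h2 := Subgroup.card_le_of_le hle
  have hH0 : H0 = H := Subgroup.eq_of_le_of_card_ge hle (by omega)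
  have hrg : f.range = genGroup (permCoding w (Equiv.refl (Fin n)) hw) S :=
    (Subgroup.eq_of_le_of_card_ge hgen (by omega)).symm
  have hbij : Function.Bijective f.rangeRestrict :=
    f.rangeRestrict_surjective.bijective_of_nat_card_le (by omega)
  refine ⟨⟨(MulEquiv.subgroupCongr hH0.symm).trans
    ((MulEquiv.ofBijective f.rangeRestrict hbij).trans (MulEquiv.subgroupCongr hrg))⟩, fun h hh hfix => ?_⟩
  rw [← hH0] at hh
  have hf1 : f.rangeRestrict ⟨h, hh⟩ = f.rangeRestrict 1 := by
    rw [map_one]
    refine Subtype.ext (Equiv.ext fun j => hinj ?_)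
    show pts (presHom pts hinj _ j) = pts j
    rw [← presHom_spec pts hinj _ j]
    exact hfix j
  exact congrArg Subtype.val (hbij.1 hf1)

theorem card_g23 : Nat.card ↥(Cfsg.Lie.chevG2.group (ZMod 3)) = 4245696 := by
  haveI : Fact (Nat.Prime 3) := ⟨Nat.prime_three⟩
  exact (S1059.result (ZMod.card 3)).trans (by norm_num)

/-- G2(3) is the certified group on 351 points. -/
theorem nonempty_g23 :
    Nonempty (↥(Cfsg.Lie.chevG2.group (ZMod 3)) ≃*
      genGroup (permCoding 9 (Equiv.refl (Fin 351)) (by norm_num)) g23Gens) := by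
  let Φ := Matrix.reindexAlgEquiv (ZMod 3) (ZMod 3) G2Three.idxEquiv
  have hinv : ∀ r t, G2Three.rootMat r t * G2Three.rootMat r (-t) = 1 := fun r t =>
    Matrix.ext fun i j => g23_rootMat_neg r t (i, j)
  let letter : Fin 12 → ZMod 3 → GL (Cfsg.Lie.chevG2).Idx (ZMod 3) := fun r t =>
    Units.map Φ.symm.toMonoidHom
      ⟨G2Three.rootMat r t, G2Three.rootMat r (-t), hinv r t, by simpa using hinv r (-t)⟩
  have hlm : ∀ r t, G2Three.matHom (letter r t) = G2Three.rootMat r t := fun r t =>
    Φ.apply_symm_apply (G2Three.rootMat r t)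
  have hletter : ∀ r t, letter r t ∈ (Cfsg.Lie.chevG2).group (ZMod 3) := fun r t =>
    Subgroup.subset_closure ⟨r, t, by
      ext i j
      rw [G2Three.rootMat_eq r t (i, j)]
      rfl⟩
  let gs : List ↥((Cfsg.Lie.chevG2).group (ZMod 3)) :=
    List.ofFn fun k : Fin 2 => ((g23Words.getD k []).map fun p =>
      (⟨_, hletter p.1 p.2⟩ : ↥((Cfsg.Lie.chevG2).group (ZMod 3)))).prod
  have hmat : ∀ (u : List (Fin 12 × ZMod 3)) (v : G2Three.V),
      Matrix.mulVec (G2Three.matHom ((u.map fun p =>
        (⟨_, hletter p.1 p.2⟩ : ↥((Cfsg.Lie.chevG2).group (ZMod 3)))).prod).1) v = g23Apply u v := by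
    intro u v
    induction u with
    | nil => simp [g23Apply]
    | cons p u ih =>
      rw [List.map_cons, List.prod_cons, Subgroup.coe_mul, map_mul, ← Matrix.mulVec_mulVec, ih, hlm]
      rfl
  let pts : Fin 351 → Set G2Three.V := fun j => {g23Vec j, -g23Vec j}
  have hinj : Function.Injective pts := fun i j h => by
    have h1 : g23Vec i ∈ pts j := h ▸ Set.mem_insert _ _
    rcases h1 with h1 | h1
    · exact g23_inj i j (Or.inl fun a => congrFun h1 a)
    · exact g23_inj i j (Or.inr fun a => congrFun h1 a)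
  letI : MulAction ↥((Cfsg.Lie.chevG2).group (ZMod 3)) (Set G2Three.V) :=
    { smul := fun g s => (fun v => Matrix.mulVec (G2Three.matHom g.1) v) '' s
      one_smul := fun s => by
        show (fun v => Matrix.mulVec (G2Three.matHom (1 : ↥((Cfsg.Lie.chevG2).group (ZMod 3))).1) v) '' s = s
        simp
      mul_smul := fun a b s => by
        show (fun v => Matrix.mulVec (G2Three.matHom (a * b).1) v) '' s =
          (fun v => Matrix.mulVec (G2Three.matHom a.1) v) ''
            ((fun v => Matrix.mulVec (G2Three.matHom b.1) v) '' s)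
        rw [Set.image_image]
        simp [Matrix.mulVec_mulVec] }
  have hm : 351 ≤ 2 ^ 9 := by norm_num
  have hS : GensOK (permCoding 9 (Equiv.refl (Fin 351)) hm) g23Gens := gensOK_literal _ _ g23Gens_ok
  have hacts : ActsBy 9 pts gs g23Gens := by
    refine ⟨by rw [g23Gens_length]; exact List.length_ofFn, fun k g p hg hp j => ?_⟩
    obtain ⟨hk, rfl⟩ := List.getElem?_eq_some_iff.1 hg
    obtain ⟨hk', rfl⟩ := List.getElem?_eq_some_iff.1 hp
    have hk2 : k < 2 := lt_of_lt_of_eq hk List.length_ofFn
    obtain ⟨hlt, he⟩ := g23_acts ⟨k, hk2⟩ j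
    simp only [List.getD_eq_getElem _ _ hk'] at hlt he
    refine ⟨hlt, ?_⟩
    rw [show gs[k]'hk = _ from List.getElem_ofFn hk]
    show (fun v => Matrix.mulVec _ v) '' ({g23Vec j, -g23Vec j} : Set G2Three.V) = _
    rw [Set.image_pair]
    simp only [Matrix.mulVec_neg]
    rw [hmat]
    rcases he with he | he
    · rw [funext he]
    · rw [show g23Apply (g23Words.getD k []) (g23Vec j) = -g23Vec (getP 9 (g23Gens[k]'hk').1 j) from
        funext he, neg_neg, Set.pair_comm]
  have hcardH : Nat.card (⊤ : Subgroup ↥((Cfsg.Lie.chevG2).group (ZMod 3))) =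
      Nat.card (genGroup (permCoding 9 (Equiv.refl (Fin 351)) hm) g23Gens) := by
    rw [card_genGroup _ hS g23Chain_ok, g23Chain_size, Subgroup.card_top, card_g23]
  obtain ⟨iso⟩ := nonempty_mulEquiv_genGroup hm ⊤ pts hinj gs (fun _ _ => trivial) hS hacts hcardH
  exact ⟨Subgroup.topEquiv.symm.trans iso⟩

/-- lane of the `j`th point -/
noncomputable def lane351 (j : Fin 351) : Lane :=
  ⟨lanes351.getD j 0, by
    have h := lanes351_ok
    simp only [Bool.and_eq_true] at h
    have hlen : j.val < lanes351.length := by rw [Nat.eq_of_beq_eq_true h.1.2]; exact j.2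
    rw [List.getD_eq_getElem _ _ hlen]
    simpa [Fi24.size_eq, Nat.blt_eq] using allB_mem h.2 (List.getElem_mem hlen)⟩

theorem lane351_injective : Function.Injective lane351 := fun i j h => by
  have hok := lanes351_ok
  simp only [Bool.and_eq_true] at hok
  have hl := Nat.eq_of_beq_eq_true hok.1.2
  have h' : lanes351.getD i 0 = lanes351.getD j 0 := Fin.ext_iff.1 h
  have hi : i.val < lanes351.length := hl.symm ▸ i.2
  have hj : j.val < lanes351.length := hl.symm ▸ j.2
  rw [List.getD_eq_getElem _ _ hi, List.getD_eq_getElem _ _ hj] at h'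
  exact Fin.ext ((distinct_nodup _ hok.1.1).getElem_inj_iff.1 h')

variable {G : Type u} [Group G] {e : Cfsg.Spor.Fi24 ≃* G}

theorem el_mem_kGroup {w : List ℕ} (hw : ∀ g ∈ w, g < 12) (h : fixesFour w = true) :
    el e w ∈ kGroup e :=
  mem_kGroup.2 ⟨el_comm hw (allB_mem h (by simp [laneL]) : sends w laneL.val laneL.val = true),
    el_comm hw (allB_mem h (by simp [laneK]) : sends w laneK.val laneK.val = true),
    el_comm hw (allB_mem h (by simp [laneB]) : sends w laneB.val laneB.val = true),
    el_comm hw (allB_mem h (by simp [laneC]) : sends w laneC.val laneC.val = true)⟩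

/-- the group as a set of points, acted on by conjugation -/
def ConjPt (G : Type*) : Type _ := G

instance : MulAction G (ConjPt G) := (MulAction.compHom G (MulAut.conj (G := G)) : MulAction G G)

/-- the element of order 13 -/
noncomputable def thirteen (e : Cfsg.Spor.Fi24 ≃* G) : G := el e wordThirteen

namespace Par

variable [Finite G] {D : Set G} (hP : Par D e)
include hP

theorem kGroup_model : Nonempty (↥(kGroup e) ≃* ↥(Cfsg.Lie.chevG2.group (ZMod 3))) ∧
    ∀ g ∈ kGroup e, (∀ j, g * pt e (lane351 j) * g⁻¹ = pt e (lane351 j)) → g = 1 := by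
  have hm : 351 ≤ 2 ^ 9 := by norm_num
  have hwA : ∀ g ∈ wordA, g < 12 := words_lt _ (by simp)
  have hwB : ∀ g ∈ wordB, g < 12 := words_lt _ (by simp)
  have hcode := g23Code_lt
  obtain ⟨hiso, hfaith⟩ := iso_and_faithful hm (kGroup e) (β := ConjPt G) (fun j => pt (G := G) e (lane351 j))
    (hP.pt_injective.comp lane351_injective) [el e wordA, el e wordB] (S := g23Gens)
    (fun g hg => by
      rcases List.mem_pair.1 hg with rfl | rfl
      exacts [el_mem_kGroup hwA fixA_ok, el_mem_kGroup hwB fixB_ok])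
    ⟨by rw [g23Gens_length]; rfl, fun k g p hg hp j => by
      obtain ⟨hk, rfl⟩ := List.getElem?_eq_some_iff.1 hg
      obtain ⟨hk', rfl⟩ := List.getElem?_eq_some_iff.1 hp
      have hj := allB_mem hcode (List.mem_range.2 j.2)
      rw [both_eq, Bool.and_eq_true, Nat.blt_eq, Nat.blt_eq] at hj
      have hk2 : k < 2 := hk
      interval_cases k
      · refine ⟨by simpa only [List.getD_eq_getElem _ _ hk'] using hj.1, ?_⟩
        refine Eq.trans (b := el e wordA * pt e (lane351 j) * (el e wordA)⁻¹) rfl ?_
        refine moves_el hwA actA_ok ?_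
        refine List.mem_map.2 ⟨j.val, List.mem_range.2 j.2, ?_⟩
        simp only [List.getD_eq_getElem _ _ hk', lane351]
      · refine ⟨by simpa only [List.getD_eq_getElem _ _ hk'] using hj.2, ?_⟩
        refine Eq.trans (b := el e wordB * pt e (lane351 j) * (el e wordB)⁻¹) rfl ?_
        refine moves_el hwB actB_ok ?_
        refine List.mem_map.2 ⟨j.val, List.mem_range.2 j.2, ?_⟩
        simp only [List.getD_eq_getElem _ _ hk', lane351]⟩
    (by rw [card_genGroup _ (gensOK_literal _ _ g23Gens_ok) g23Chain_ok, g23Chain_size]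
        exact hP.card_kGroup_le)
  obtain ⟨i1⟩ := hiso
  obtain ⟨i2⟩ := nonempty_g23
  exact ⟨⟨i1.trans i2.symm⟩, fun g hg h => hfaith g hg fun j => h j⟩

theorem card_kGroup : Nat.card (kGroup e) = 4245696 := by
  obtain ⟨i⟩ := hP.kGroup_model.1
  rw [Nat.card_congr i.toEquiv, card_g23]

theorem thirteen_mem : thirteen e ∈ kGroup e :=
  el_mem_kGroup (words_lt _ (by simp)) fixThirteen_ok

theorem orderOf_thirteen : orderOf (thirteen e) = 13 := by
  haveI : Fact (Nat.Prime 13) := ⟨by norm_num⟩
  have hw : ∀ g ∈ wordThirteen, g < 12 := words_lt _ (by simp)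
  have hstep : ∀ j : Fin 351, permThirteen.getD j 0 < 351 ∧ stepThirteen j = j := fun j => by
    have h := allB_mem stepThirteen_ok (List.mem_range.2 j.2)
    rw [both_eq, Bool.and_eq_true, Nat.blt_eq] at h
    exact ⟨h.1, Nat.eq_of_beq_eq_true h.2⟩
  have h1 : ∀ j : Fin 351, thirteen e * pt e (lane351 j) * (thirteen e)⁻¹ =
      pt e (lane351 ⟨permThirteen.getD j 0, (hstep j).1⟩) := fun j =>
    moves_el hw permThirteen_ok (List.mem_map.2 ⟨j.val, List.mem_range.2 j.2, rfl⟩)
  let σ : Fin 351 → Fin 351 := fun j => ⟨permThirteen.getD j 0, (hstep j).1⟩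
  have hn : ∀ (n : ℕ) (j : Fin 351), thirteen e ^ n * pt e (lane351 j) * (thirteen e ^ n)⁻¹ =
      pt e (lane351 (σ^[n] j)) := by
    intro n
    induction n with
    | zero => intro j; simp
    | succ n ih =>
      intro j
      rw [Function.iterate_succ_apply', ← h1 (σ^[n] j), ← ih j, pow_succ']
      group
  have hval : ∀ (n : ℕ) (j : Fin 351), (σ^[n] j).val =
      Nat.rec (motive := fun _ => Nat) j.val (fun _ ih => permThirteen.getD ih 0) n := by
    intro n
    induction n with
    | zero => intro j; rfl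
    | succ n ih => intro j; rw [Function.iterate_succ_apply']; show permThirteen.getD _ 0 = _; rw [ih]
  refine orderOf_eq_prime ?_ ?_
  · refine hP.kGroup_model.2 _ (pow_mem hP.thirteen_mem 13) fun j => ?_
    rw [hn, show σ^[13] j = j from Fin.ext ((hval 13 j).trans (hstep j).2)]
  · intro h
    have h0 := h1 0
    rw [h, one_mul, inv_one, mul_one] at h0
    have h2 := lane351_injective (hP.pt_injective h0)
    have h3 := permThirteen_moves
    rw [show permThirteen.getD 0 0 = 0 from (Fin.ext_iff.1 h2).symm] at h3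
    exact absurd h3 (by decide)

end Par

end Cfsg.Agent.Lib.Fi24Thirteen
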