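import Cfsg.Agent.Lib.Fi24Thirteen.Model

/-!
The normaliser of a subgroup of order 13 in a group of type M(24).
-/

set_option autoImplicit false

namespace Cfsg.Agent.Lib.Fi24Thirteen

open Cfsg Cfsg.Agent.Lib Cfsg.Agent.Lib.CosetTable.Lanes

universe u

section Abstract

variable {L : Type*} [Group L] [Finite L]

/-- Subgroups of prime order `p`, `p` dividing the order once, are conjugate. -/
theorem conj_of_card_prime {p m : ℕ} [hp : Fact p.Prime] (hcard : Nat.card L = p * m) (hm : ¬ p ∣ m)
    {X Y : Subgroup L} (hX : Nat.card X = p) (hY : Nat.card Y = p) :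
    ∃ g : L, X.map (MulAut.conj g).toMonoidHom = Y := by
  have hf : (Nat.card L).factorization p = 1 := by
    rw [hcard, Nat.factorization_mul hp.out.ne_zero (fun h => hm (by rw [h]; exact dvd_zero p)),
      Finsupp.add_apply, Nat.Prime.factorization_self hp.out,
      Nat.factorization_eq_zero_of_not_dvd hm]
  have hX' : Nat.card X = p ^ (Nat.card L).factorization p := by rw [hf, pow_one, hX]
  have hY' : Nat.card Y = p ^ (Nat.card L).factorization p := by rw [hf, pow_one, hY]
  obtain ⟨g, hg⟩ := MulAction.exists_smul_eq L (Sylow.ofCard X hX') (Sylow.ofCard Y hY')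
  refine ⟨g, ?_⟩
  have h := congrArg (fun P : Sylow p L => (P : Subgroup L)) hg
  simp only [Sylow.coe_subgroup_smul] at h
  exact h

/-- In a group of order 4245696 a self-centralising element of order 13 has normaliser of order 78. -/
theorem thirteen_frobenius (hcard : Nat.card L = 4245696) {x : L} (hx : orderOf x = 13)
    (hC : ∀ y : L, Commute y x → y ∈ Subgroup.zpowers x) (B : Subgroup L) (hB : Nat.card B = 13) :
    Subgroup.centralizer (B : Set L) = B ∧ Nat.card (Subgroup.normalizer (B : Set L)) = 78 := by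
  haveI : Fact (Nat.Prime 13) := ⟨by norm_num⟩
  have hc' : Nat.card L = 13 * 326592 := hcard.trans (by norm_num)
  have hCB : Subgroup.centralizer (B : Set L) = B := by
    obtain ⟨g, hg⟩ := conj_of_card_prime hc' (by norm_num)
      (by rw [Nat.card_zpowers, hx] : Nat.card (Subgroup.zpowers x) = 13) hB
    refine le_antisymm (fun y hy => ?_) ?_
    · have hgx : g * x * g⁻¹ ∈ B := hg ▸ ⟨x, Subgroup.mem_zpowers x, rfl⟩
      have hcomm : Commute (g⁻¹ * y * g) x := by
        have h := Subgroup.mem_centralizer_iff.1 hy _ hgx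
        show g⁻¹ * y * g * x = x * (g⁻¹ * y * g)
        calc g⁻¹ * y * g * x = g⁻¹ * (y * (g * x * g⁻¹)) * g := by group
          _ = g⁻¹ * (g * x * g⁻¹ * y) * g := by rw [h]
          _ = x * (g⁻¹ * y * g) := by group
      rw [← hg]
      exact ⟨g⁻¹ * y * g, hC _ hcomm, by simp [mul_assoc]⟩
    · haveI : IsCyclic B := isCyclic_of_prime_card hB
      haveI : IsMulCommutative B := IsCyclic.isMulCommutative
      exact Subgroup.le_centralizer B
  refine ⟨hCB, ?_⟩
  obtain ⟨P, hP⟩ : ∃ P : Sylow 13 L, (P : Subgroup L) = B := by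
    have hf : (Nat.card L).factorization 13 = 1 := by
      rw [hc', Nat.factorization_mul (by norm_num) (by norm_num), Finsupp.add_apply,
        Nat.Prime.factorization_self (by norm_num), Nat.factorization_eq_zero_of_not_dvd (by norm_num)]
    exact ⟨Sylow.ofCard B (by rw [hf, pow_one, hB]), rfl⟩
  have hmod := card_sylow_modEq_one 13 L
  rw [Sylow.card_eq_index_normalizer P, show (P : Set L) = (B : Set L) by rw [← hP]; rfl] at hmod
  have hmul := (Subgroup.normalizer (B : Set L)).card_mul_index
  rw [hcard] at hmul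
  -- the quotient by the centraliser embeds into the automorphisms of `B`
  have hdvd : Nat.card (Subgroup.normalizer (B : Set L)) ∣ 13 * 12 := by
    have h := Subgroup.card_eq_card_quotient_mul_card_subgroup B.normalizerMonoidHom.ker
    have hk : Nat.card B.normalizerMonoidHom.ker = 13 := by
      rw [Subgroup.normalizerMonoidHom_ker, hCB,
        Nat.card_congr (Subgroup.subgroupOfEquivOfLe Subgroup.le_normalizer).toEquiv, hB]
    have hr : Nat.card (↥(Subgroup.normalizer (B : Set L)) ⧸ B.normalizerMonoidHom.ker) ∣ 12 := by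
      rw [Nat.card_congr (QuotientGroup.quotientKerEquivRange B.normalizerMonoidHom).toEquiv]
      haveI : IsCyclic B := isCyclic_of_prime_card hB
      refine (Subgroup.card_subgroup_dvd_card _).trans ?_
      rw [IsCyclic.card_mulAut, hB, Nat.totient_prime (by norm_num)]
    rw [h, hk, mul_comm]
    exact mul_dvd_mul_left 13 hr
  have h13 : 13 ∣ Nat.card (Subgroup.normalizer (B : Set L)) :=
    hB ▸ Subgroup.card_dvd_of_le Subgroup.le_normalizer
  generalize Nat.card (Subgroup.normalizer (B : Set L)) = c at *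
  generalize (Subgroup.normalizer (B : Set L)).index = i at *
  obtain ⟨k, rfl⟩ := h13
  have hk : k ∣ 12 := Nat.dvd_of_mul_dvd_mul_left (by norm_num) hdvd
  have hi : i = 326592 / k := by
    have : k * i = 326592 := by nlinarith
    rw [← this, Nat.mul_div_cancel_left _ (Nat.pos_of_dvd_of_pos hk (by norm_num))]
  subst hi
  have hk' : k ∈ Nat.divisors 12 := Nat.mem_divisors.2 ⟨hk, by norm_num⟩
  have : k = 6 := by
    revert hmod
    rw [show Nat.divisors 12 = {1, 2, 3, 4, 6, 12} by decide] at hk'
    simp only [Finset.mem_insert, Finset.mem_singleton] at hk'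
    rcases hk' with rfl | rfl | rfl | rfl | rfl | rfl <;> simp [Nat.ModEq]
  omega

end Abstract

variable {G : Type u} [Group G] [Finite G] {D : Set G} {e : Cfsg.Spor.Fi24 ≃* G}

/-- a triangle: an element of `⟨a, d⟩` moves `(a, d)` to any pair of its members -/
theorem exists_triangle_move {a d : G} (haa : a * a = 1) (hdd : d * d = 1) (htri : d * a * d = a * d * a)
    {x y : G} (hx : x ∈ ({a, d, a * d * a} : Set G)) (hy : y ∈ ({a, d, a * d * a} : Set G)) (hxy : x ≠ y) :
    ∃ t ∈ Subgroup.closure ({a, d} : Set G), t * a * t⁻¹ = x ∧ t * d * t⁻¹ = y := by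
  set S := Subgroup.closure ({a, d} : Set G)
  have hai : a⁻¹ = a := inv_eq_of_mul_eq_one_right haa
  have hdi : d⁻¹ = d := inv_eq_of_mul_eq_one_right hdd
  have ha : a ∈ S := Subgroup.subset_closure (Set.mem_insert _ _)
  have hd : d ∈ S := Subgroup.subset_closure (Set.mem_insert_of_mem _ rfl)
  have e1 : a * d * a * a * (a * d * a) = d := by
    calc a * d * a * a * (a * d * a) = a * (d * (a * a) * a * d) * a := by group
      _ = a * (d * a * d) * a := by rw [haa, mul_one]
      _ = a * (a * d * a) * a := by rw [htri]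
      _ = a * a * d * (a * a) := by group
      _ = d := by rw [haa, one_mul, mul_one]
  have e2 : a * d * a * d * (a * d * a) = a := by
    calc a * d * a * d * (a * d * a) = a * d * a * d * (d * a * d) := by rw [htri]
      _ = a * d * a * (d * d) * a * d := by group
      _ = a * d * (a * a) * d := by rw [hdd]; group
      _ = a * (d * d) := by rw [haa]; group
      _ = a := by rw [hdd, mul_one]
  have e3 : d * (a * d * a) * d = a := by
    calc d * (a * d * a) * d = d * (d * a * d) * d := by rw [htri]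
      _ = d * d * a * (d * d) := by group
      _ = a := by rw [hdd, one_mul, mul_one]
  have e4 : a * (a * d * a) * a = d := by
    calc a * (a * d * a) * a = a * a * d * (a * a) := by group
      _ = d := by rw [haa, one_mul, mul_one]
  simp only [Set.mem_insert_iff, Set.mem_singleton_iff] at hx hy
  rcases hx with hx | hx | hx <;> rcases hy with hy | hy | hy <;> rw [hx, hy] at hxy <;>
    rw [hx, hy] <;> try exact absurd rfl hxy
  · exact ⟨1, one_mem S, by simp, by simp⟩
  · exact ⟨a, ha, by rw [hai, haa, one_mul], by rw [hai]⟩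
  · exact ⟨a * d * a, mul_mem (mul_mem ha hd) ha,
      by rw [mul_inv_rev, mul_inv_rev, hai, hdi, ← mul_assoc a d a, e1],
      by rw [mul_inv_rev, mul_inv_rev, hai, hdi, ← mul_assoc a d a, e2]⟩
  · refine ⟨a * d, mul_mem ha hd, ?_, ?_⟩
    · rw [mul_inv_rev, hai, hdi]
      calc a * d * a * (d * a) = a * (d * a * d) * a := by group
        _ = d := by rw [htri, e4]
    · rw [mul_inv_rev, hai, hdi]
      calc a * d * d * (d * a) = a * (d * d) * d * a := by group
        _ = a * d * a := by rw [hdd, mul_one]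
  · refine ⟨d * a, mul_mem hd ha, ?_, ?_⟩
    · rw [mul_inv_rev, hai, hdi]
      calc d * a * a * (a * d) = d * (a * a) * a * d := by group
        _ = a * d * a := by rw [haa, mul_one, htri]
    · rw [mul_inv_rev, hai, hdi]
      calc d * a * d * (a * d) = d * (a * d * a) * d := by group
        _ = a := e3
  · exact ⟨d, hd, by rw [hdi, htri], by rw [hdi, hdd, one_mul]⟩

namespace Par

variable (hP : Par D e)
include hP

theorem pt_sq (i : Lane) : pt e i * pt e i = 1 := by
  have h := pow_orderOf_eq_one (pt e i)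
  rw [hP.ctx.grp.1.1 _ (hP.pt_mem i), pow_two] at h
  exact h

theorem braid {i j : Lane} (h : ¬ Commute (pt e i) (pt e j)) :
    pt e j * pt e i * pt e j = pt e i * pt e j * pt e i := by
  have h1 := M24Struct51.tr_conj hP.ctx.grp.1 (hP.pt_mem i) (hP.pt_mem j) h
  rw [mul_inv_eq_iff_eq_mul] at h1
  rw [h1, mul_assoc]

/-- the six members centralising the element of order 13 -/
def six (e : Cfsg.Spor.Fi24 ≃* G) : Set G :=
  {pt e laneL, pt e laneK, pt e laneLK, pt e laneB, pt e laneC, pt e laneBC}

theorem six_comm {g : G} (hg : g ∈ kGroup e) {y : G} (hy : y ∈ six e) : Commute g y := by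
  obtain ⟨p, q, r, s⟩ := mem_kGroup.1 hg
  obtain ⟨-, -, -, -, hLK, hBC⟩ := pt_relations e
  rcases hy with rfl | rfl | rfl | rfl | rfl | rfl
  · exact p
  · exact q
  · rw [← hLK]; exact ((Commute.mul_right p q).mul_right (Commute.inv_right p))
  · exact r
  · exact s
  · rw [← hBC]; exact ((Commute.mul_right r s).mul_right (Commute.inv_right r))

theorem fixed_thirteen {y : G} (hy : y ∈ D) (h : Commute (thirteen e) y) : y ∈ six e := by
  obtain ⟨i, rfl⟩ := hP.exists_pt hy
  have hw : ∀ g ∈ wordThirteen, g < 12 := words_lt _ (by simp)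
  have hi := (hP.commute_iff (x := pw Fi24.gn wordThirteen)).1 h
  rw [phi_pw hw] at hi
  have hm := fixesOnly_spec fixedSix_ok hi
  simp only [List.mem_cons, List.not_mem_nil, or_false] at hm
  have key : ∀ j : Lane, i.val = j.val → pt e i = pt e j := fun j h => by rw [Fin.ext h]
  rcases hm with h | h | h | h | h | h
  exacts [Or.inl (key laneL h), Or.inr (Or.inl (key laneK h)), Or.inr (Or.inr (Or.inl (key laneLK h))),
    Or.inr (Or.inr (Or.inr (Or.inl (key laneB h)))), Or.inr (Or.inr (Or.inr (Or.inr (Or.inl (key laneC h))))),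
    Or.inr (Or.inr (Or.inr (Or.inr (Or.inr (key laneBC h)))))]

theorem kGroup_thirteen {B : Subgroup G} (hB : B ≤ kGroup e) (hcB : Nat.card B = 13) :
    kGroup e ⊓ Subgroup.centralizer (B : Set G) = B ∧
      Nat.card ↥(kGroup e ⊓ Subgroup.normalizer (B : Set G)) = 78 := by
  obtain ⟨iso⟩ := hP.kGroup_model.1
  obtain ⟨x, hx, hC⟩ := G2Three.exists_isolated_thirteen
  have hB' : Nat.card (B.subgroupOf (kGroup e)) = 13 := by
    rw [Nat.card_congr (Subgroup.subgroupOfEquivOfLe hB).toEquiv, hcB]
  obtain ⟨h1, h2⟩ := thirteen_frobenius hP.card_kGroup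
    (x := iso.symm x) ((MulEquiv.orderOf_eq iso.symm x).trans hx)
    (fun y hy => by
      have h := hC (iso y) (by simpa using hy.map iso)
      obtain ⟨k, hk⟩ := h
      exact ⟨k, iso.injective (by simpa using hk)⟩) _ hB'
  refine ⟨le_antisymm ?_ ?_, ?_⟩
  · rintro g ⟨hgK, hgC⟩
    have : (⟨g, hgK⟩ : kGroup e) ∈ Subgroup.centralizer ((B.subgroupOf (kGroup e)) : Set (kGroup e)) :=
      Subgroup.mem_centralizer_iff.2 fun y hy =>
        Subtype.ext (Subgroup.mem_centralizer_iff.1 hgC y hy)
    rw [h1] at this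
    exact this
  · intro g hg
    refine ⟨hB hg, Subgroup.mem_centralizer_iff.2 fun y hy => ?_⟩
    haveI : IsCyclic B := haveI : Fact (Nat.Prime 13) := ⟨by norm_num⟩; isCyclic_of_prime_card hcB
    haveI : IsMulCommutative B := IsCyclic.isMulCommutative
    exact congrArg Subtype.val (IsMulCommutative.is_comm.comm (⟨y, hy⟩ : B) ⟨g, hg⟩)
  · rw [← h2, inf_comm, ← Subgroup.subgroupOf_map_subtype,
      Subgroup.card_map_of_injective (kGroup e).subtype_injective]
    refine Nat.card_congr (Equiv.subtypeEquivRight fun g => ?_)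
    simp only [Subgroup.mem_subgroupOf, Subgroup.mem_normalizer_iff]
    exact ⟨fun h b => h b, fun h b => by
      by_cases hb : b ∈ kGroup e
      · exact h ⟨b, hb⟩
      · constructor
        · exact fun hbB => absurd (hB hbB) hb
        · intro hbB
          refine absurd ?_ hb
          have := mul_mem (mul_mem (inv_mem g.2) (hB hbB)) g.2
          simpa [mul_assoc] using this⟩

theorem six_subset : six e ⊆ Subgroup.closure
    ({pt e laneL, pt e laneB, pt e laneC, pt e laneK} : Set G) := by
  obtain ⟨-, -, -, -, hLK, hBC⟩ := pt_relations e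
  set S := Subgroup.closure ({pt e laneL, pt e laneB, pt e laneC, pt e laneK} : Set G)
  have hL : pt e laneL ∈ S := Subgroup.subset_closure (by simp)
  have hK : pt e laneK ∈ S := Subgroup.subset_closure (by simp)
  have hB : pt e laneB ∈ S := Subgroup.subset_closure (by simp)
  have hC : pt e laneC ∈ S := Subgroup.subset_closure (by simp)
  rintro y (rfl | rfl | rfl | rfl | rfl | rfl)
  exacts [hL, hK, hLK ▸ mul_mem (mul_mem hL hK) (inv_mem hL), hB, hC,
    hBC ▸ mul_mem (mul_mem hB hC) (inv_mem hB)]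

/-- a subgroup of order 13 of the joint centraliser fixes only the six members -/
theorem fixed_six {B : Subgroup G} (hB : B ≤ kGroup e) (hcB : Nat.card B = 13) {y : G} (hy : y ∈ D)
    (h : ∀ b ∈ B, Commute b y) : y ∈ six e := by
  haveI : Fact (Nat.Prime 13) := ⟨by norm_num⟩
  have hX : Nat.card ((Subgroup.zpowers (thirteen e)).subgroupOf (kGroup e)) = 13 := by
    rw [Nat.card_congr (Subgroup.subgroupOfEquivOfLe (Subgroup.zpowers_le.2 hP.thirteen_mem)).toEquiv,
      Nat.card_zpowers, hP.orderOf_thirteen]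
  have hY : Nat.card (B.subgroupOf (kGroup e)) = 13 := by
    rw [Nat.card_congr (Subgroup.subgroupOfEquivOfLe hB).toEquiv, hcB]
  obtain ⟨⟨k, hk⟩, hkB⟩ := conj_of_card_prime (p := 13) (m := 326592)
    (hP.card_kGroup.trans (by norm_num)) (by norm_num) hX hY
  have hmem : k * thirteen e * k⁻¹ ∈ B := by
    have h1 : (⟨k, hk⟩ : kGroup e) * ⟨thirteen e, hP.thirteen_mem⟩ * (⟨k, hk⟩ : kGroup e)⁻¹ ∈
        B.subgroupOf (kGroup e) := hkB ▸ ⟨_, Subgroup.mem_zpowers (thirteen e), rfl⟩
    exact h1
  have hc : Commute (thirteen e) (k⁻¹ * y * k) := by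
    have := h _ hmem
    show thirteen e * (k⁻¹ * y * k) = k⁻¹ * y * k * thirteen e
    calc thirteen e * (k⁻¹ * y * k) = k⁻¹ * (k * thirteen e * k⁻¹ * y) * k := by group
      _ = k⁻¹ * (y * (k * thirteen e * k⁻¹)) * k := by rw [this.eq]
      _ = _ := by group
  have hy' : k⁻¹ * y * k ∈ D := by simpa using hP.conj_mem k⁻¹ hy
  have hs := hP.fixed_thirteen hy' hc
  have he := hP.six_comm hk hs
  have : y = k⁻¹ * y * k := by
    calc y = k * (k⁻¹ * y * k) * k⁻¹ := by group
      _ = k⁻¹ * y * k * k * k⁻¹ := by rw [he.eq]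
      _ = _ := by group
  rwa [this]

theorem normalizer_six {B : Subgroup G} (hB : B ≤ kGroup e) (hcB : Nat.card B = 13) {g : G}
    (hg : g ∈ Subgroup.normalizer (B : Set G)) {y : G} (hy : y ∈ six e) : g * y * g⁻¹ ∈ six e := by
  have hyD : y ∈ D := by
    rcases hy with rfl | rfl | rfl | rfl | rfl | rfl <;> exact hP.pt_mem _
  refine hP.fixed_six hB hcB (hP.conj_mem g hyD) fun b hb => ?_
  have hb' : g⁻¹ * b * g ∈ B := (Subgroup.mem_normalizer_iff''.1 hg b).1 hb
  have h := hP.six_comm (hB hb') hy
  show b * (g * y * g⁻¹) = g * y * g⁻¹ * b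
  calc b * (g * y * g⁻¹) = g * (g⁻¹ * b * g * y) * g⁻¹ := by group
    _ = g * (y * (g⁻¹ * b * g)) * g⁻¹ := by rw [h.eq]
    _ = g * y * g⁻¹ * b := by group

/-- the swap of the two pairs -/
theorem exists_swap {B : Subgroup G} (hB : B ≤ kGroup e) (hcB : Nat.card B = 13) :
    ∃ g ∈ Subgroup.normalizer (B : Set G), g * pt e laneL * g⁻¹ = pt e laneB := by
  haveI : Fact (Nat.Prime 13) := ⟨by norm_num⟩
  have hw : ∀ g ∈ wordSwap, g < 12 := words_lt _ (by simp)
  set u := el e wordSwap
  have h1 : u * pt e laneL * u⁻¹ = pt e laneB := sends_el hw swapL_ok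
  have h2 : u * pt e laneK * u⁻¹ = pt e laneC := sends_el hw swapK_ok
  have h3 : u * pt e laneB * u⁻¹ = pt e laneL := sends_el hw swapB_ok
  have h4 : u * pt e laneC * u⁻¹ = pt e laneK := sends_el hw swapC_ok
  have hmap : ∀ k ∈ kGroup e, u * k * u⁻¹ ∈ kGroup e := by
    intro k hk
    obtain ⟨p, q, r, s⟩ := mem_kGroup.1 hk
    have tr : ∀ {a b : G}, u * a * u⁻¹ = b → k * a = a * k → u * k * u⁻¹ * b = b * (u * k * u⁻¹) := by
      intro a b hab hka
      rw [← hab]
      calc u * k * u⁻¹ * (u * a * u⁻¹) = u * (k * a) * u⁻¹ := by group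
        _ = u * (a * k) * u⁻¹ := by rw [hka]
        _ = _ := by group
    exact mem_kGroup.2 ⟨tr h3 r, tr h4 s, tr h1 p, tr h2 q⟩
  let B' := B.map (MulAut.conj u).toMonoidHom
  have hB' : B' ≤ kGroup e := by
    rintro _ ⟨b, hb, rfl⟩
    exact hmap b (hB hb)
  have hcB' : Nat.card (B'.subgroupOf (kGroup e)) = 13 := by
    rw [Nat.card_congr (Subgroup.subgroupOfEquivOfLe hB').toEquiv,
      Subgroup.card_map_of_injective (MulAut.conj u).injective, hcB]
  have hY : Nat.card (B.subgroupOf (kGroup e)) = 13 := by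
    rw [Nat.card_congr (Subgroup.subgroupOfEquivOfLe hB).toEquiv, hcB]
  obtain ⟨⟨k, hk⟩, hkB⟩ := conj_of_card_prime (p := 13) (m := 326592)
    (hP.card_kGroup.trans (by norm_num)) (by norm_num) hcB' hY
  refine ⟨k * u, ?_, ?_⟩
  · refine Subgroup.mem_normalizer_fintype fun b hb => ?_
    have h : (⟨k, hk⟩ : kGroup e) * ⟨u * b * u⁻¹, hmap b (hB hb)⟩ * (⟨k, hk⟩ : kGroup e)⁻¹ ∈
        B.subgroupOf (kGroup e) := hkB ▸ ⟨⟨u * b * u⁻¹, hmap b (hB hb)⟩, ⟨b, hb, rfl⟩, rfl⟩
    have h' : k * (u * b * u⁻¹) * k⁻¹ ∈ B := h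
    simpa [mul_assoc] using h'
  · have hkb := (mem_kGroup.1 hk).2.2.1
    calc k * u * pt e laneL * (k * u)⁻¹ = k * (u * pt e laneL * u⁻¹) * k⁻¹ := by group
      _ = pt e laneB * k * k⁻¹ := by rw [h1, hkb]
      _ = pt e laneB := by group

theorem index_two {B : Subgroup G} (hB : B ≤ kGroup e) (hcB : Nat.card B = 13) :
    (((kGroup e ⊓ Subgroup.normalizer (B : Set G)) ⊔
      Subgroup.closure ({pt e laneL, pt e laneB, pt e laneC, pt e laneK} : Set G)).subgroupOf
        (Subgroup.normalizer (B : Set G))).index = 2 := by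
  obtain ⟨hLB, hLC, hKB, hKC, hLK, hBC⟩ := pt_relations e
  set a := pt e laneL
  set d := pt e laneK
  set b := pt e laneB
  set c := pt e laneC
  set T := Subgroup.closure ({a, b, c, d} : Set G)
  set N := Subgroup.normalizer (B : Set G)
  set M := (kGroup e ⊓ N) ⊔ T
  have hai : a⁻¹ = a := inv_eq_of_mul_eq_one_right (hP.pt_sq _)
  have hbi : b⁻¹ = b := inv_eq_of_mul_eq_one_right (hP.pt_sq _)
  have hna : ¬ Commute a d := hP.not_commute_LK
  have hnb : ¬ Commute b c := hP.not_commute_BC
  -- two blocks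
  let A1 : Set G := {a, d, a * d * a}
  let A2 : Set G := {b, c, b * c * b}
  have hsix : ∀ y ∈ six e, y ∈ A1 ∨ y ∈ A2 := by
    rintro y (rfl | rfl | rfl | rfl | rfl | rfl)
    · exact Or.inl (Or.inl rfl)
    · exact Or.inl (Or.inr (Or.inl rfl))
    · exact Or.inl (Or.inr (Or.inr (by rw [Set.mem_singleton_iff, ← hLK, hai])))
    · exact Or.inr (Or.inl rfl)
    · exact Or.inr (Or.inr (Or.inl rfl))
    · exact Or.inr (Or.inr (Or.inr (by rw [Set.mem_singleton_iff, ← hBC, hbi])))
  have hcross : ∀ x ∈ A1, ∀ y ∈ A2, Commute x y := by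
    have cab : Commute a b := hLB
    have cac : Commute a c := hLC
    have cdb : Commute d b := hKB
    have cdc : Commute d c := hKC
    have c3 : ∀ z, Commute a z → Commute d z → Commute (a * d * a) z := fun z h1 h2 =>
      (h1.mul_left h2).mul_left h1
    have row : ∀ x, Commute x b → Commute x c → ∀ y ∈ A2, Commute x y := by
      intro x h1 h2 y hy
      rcases hy with rfl | rfl | rfl
      exacts [h1, h2, (h1.mul_right h2).mul_right h1]
    intro x hx y hy
    rcases hx with rfl | rfl | rfl
    exacts [row _ cab cac y hy, row _ cdb cdc y hy, row _ (c3 b cab cdb) (c3 c cac cdc) y hy]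
  have hne1 : ∀ {g x y : G}, ¬ Commute x y → ¬ Commute (g * x * g⁻¹) (g * y * g⁻¹) := by
    intro g x y h hc
    apply h
    have := hc.map (MulAut.conj g⁻¹).toMonoidHom
    simpa [mul_assoc] using this
  have hamem : a ∈ six e := Or.inl rfl
  have hdmem : d ∈ six e := Or.inr (Or.inl rfl)
  have hbmem : b ∈ six e := Or.inr (Or.inr (Or.inr (Or.inl rfl)))
  have hcmem : c ∈ six e := Or.inr (Or.inr (Or.inr (Or.inr (Or.inl rfl))))
  have hside : ∀ {g x y : G}, ¬ Commute x y → g * x * g⁻¹ ∈ six e → g * y * g⁻¹ ∈ six e →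
      (g * x * g⁻¹ ∈ A1 ∧ g * y * g⁻¹ ∈ A1) ∨ (g * x * g⁻¹ ∈ A2 ∧ g * y * g⁻¹ ∈ A2) := by
    intro g x y h hx hy
    rcases hsix _ hx with h1 | h1 <;> rcases hsix _ hy with h2 | h2
    · exact Or.inl ⟨h1, h2⟩
    · exact absurd (hcross _ h1 _ h2) (hne1 h)
    · exact absurd (hcross _ h2 _ h1).symm (hne1 h)
    · exact Or.inr ⟨h1, h2⟩
  have hA12 : ∀ x ∈ A1, x ∈ A2 → False := by
    intro x hx hx2
    have h1 := hcross a (Or.inl rfl) x hx2
    have h2 := hcross d (Or.inr (Or.inl rfl)) x hx2
    rcases hx with rfl | rfl | rfl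
    · exact hna h2.symm
    · exact hna h1
    · apply hna
      have h3 : Commute a (a * (a * d * a) * a) :=
        ((Commute.refl a).mul_right h1).mul_right (Commute.refl a)
      rwa [show a * (a * d * a) * a = d by
        calc a * (a * d * a) * a = a * a * d * (a * a) := by group
          _ = d := by rw [hP.pt_sq]; group] at h3
  have hTN : T ≤ N := by
    refine (Subgroup.closure_le _).2 ?_
    intro y hy
    refine Subgroup.mem_normalizer_fintype fun z hz => ?_
    have hy6 : y ∈ six e := by
      rcases hy with rfl | rfl | rfl | rfl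
      exacts [hamem, hbmem, hcmem, hdmem]
    rw [show y * z * y⁻¹ = z by rw [← (hP.six_comm (hB hz) hy6).eq]; group]
    exact hz
  have hMN : M ≤ N := sup_le inf_le_right hTN
  -- members of `M` keep the first block
  have hkeep : ∀ g ∈ M, g * a * g⁻¹ ∈ A1 ∧ g * d * g⁻¹ ∈ A1 := by
    have hP1 : ∀ g ∈ N, g * a * g⁻¹ ∈ A1 → g * d * g⁻¹ ∈ A1 := fun g hg h => by
      rcases hside hna (hP.normalizer_six hB hcB hg hamem) (hP.normalizer_six hB hcB hg hdmem) with
        ⟨_, h2⟩ | ⟨h1, _⟩
      exacts [h2, (hA12 _ h h1).elim]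
    let H : Submonoid G :=
      { carrier := {g | g ∈ N ∧ ∀ x ∈ A1, g * x * g⁻¹ ∈ A1}
        one_mem' := ⟨one_mem N, fun x hx => by simpa using hx⟩
        mul_mem' := fun {g h} hg hh => ⟨mul_mem hg.1 hh.1, fun x hx => by
          have := hg.2 _ (hh.2 x hx)
          simpa [mul_assoc] using this⟩ }
    have hall : ∀ g ∈ N, g * a * g⁻¹ ∈ A1 → g ∈ H := by
      intro g hg h
      refine ⟨hg, ?_⟩
      rintro x (rfl | rfl | rfl)
      · exact h
      · exact hP1 g hg h
      · have hz : g * (a * d * a) * g⁻¹ ∈ six e := hP.normalizer_six hB hcB hg (by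
          refine Or.inr (Or.inr (Or.inl ?_)); rw [← hLK, hai])
        rcases hside (x := a) (y := a * d * a) (fun hc => hna (by
            have := ((Commute.refl a).mul_right hc).mul_right (Commute.refl a)
            rwa [show a * (a * d * a) * a = d by
              calc a * (a * d * a) * a = a * a * d * (a * a) := by group
                _ = d := by rw [hP.pt_sq]; group] at this))
          (hP.normalizer_six hB hcB hg hamem) hz with ⟨_, h2⟩ | ⟨h1, _⟩
        exacts [h2, (hA12 _ h h1).elim]
    have hle : M.toSubmonoid ≤ H := by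
      intro g hg
      have hg' : g ∈ Subgroup.closure (((kGroup e ⊓ N : Subgroup G) : Set G) ∪ {a, b, c, d}) := by
        rw [Subgroup.closure_union, Subgroup.closure_eq]; exact hg
      rw [← Subgroup.mem_toSubmonoid, Subgroup.closure_toSubmonoid_of_finite] at hg'
      refine (Submonoid.closure_le (S := H)).2 ?_ hg'
      rintro x (hx | hx)
      · refine hall x hx.2 ?_
        rw [(hP.six_comm hx.1 hamem).eq]
        exact Or.inl (by group)
      · refine hall x (hTN (Subgroup.subset_closure hx)) ?_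
        rcases hx with rfl | rfl | rfl | rfl
        · exact Or.inl (by group)
        · exact Or.inl (by rw [← hLB]; group)
        · exact Or.inl (by rw [← hLC]; group)
        · refine Or.inr (Or.inr ?_)
          rw [Set.mem_singleton_iff, inv_eq_of_mul_eq_one_right (hP.pt_sq laneK)]
          exact hP.braid hna
    exact fun g hg => ⟨(hle hg).2 a (Or.inl rfl), (hle hg).2 d (Or.inr (Or.inl rfl))⟩
  -- and conversely
  have hin : ∀ g ∈ N, g * a * g⁻¹ ∈ A1 → g ∈ M := by
    intro g hg h
    have hd1 : g * d * g⁻¹ ∈ A1 := by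
      rcases hside hna (hP.normalizer_six hB hcB hg hamem) (hP.normalizer_six hB hcB hg hdmem) with
        ⟨_, h2⟩ | ⟨h1, _⟩
      exacts [h2, (hA12 _ h h1).elim]
    have hb2 : g * b * g⁻¹ ∈ A2 ∧ g * c * g⁻¹ ∈ A2 := by
      rcases hside hnb (hP.normalizer_six hB hcB hg hbmem) (hP.normalizer_six hB hcB hg hcmem) with
        ⟨hx, hy⟩ | h2
      · exfalso
        -- the first block would receive four different images
        have inj : Function.Injective fun z : G => g * z * g⁻¹ := fun u v huv => by simpa using huv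
        have hne : a ≠ d ∧ a ≠ b ∧ a ≠ c ∧ d ≠ b ∧ d ≠ c ∧ b ≠ c := by
          obtain ⟨n1, n2, n3, n4, n5, n6, -, -⟩ := lanes_ne
          exact ⟨hP.pt_injective.ne n1, hP.pt_injective.ne n2, hP.pt_injective.ne n3,
            hP.pt_injective.ne n4, hP.pt_injective.ne n5, hP.pt_injective.ne n6⟩
        obtain ⟨n1, n2, n3, n4, n5, n6⟩ := hne
        rcases h with h1 | h1 | h1 <;> rcases hd1 with h2 | h2 | h2 <;>
          rcases hx with h3 | h3 | h3 <;>
          first
            | exact n1 (inj (h1.trans h2.symm))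
            | exact n2 (inj (h1.trans h3.symm))
            | exact n4 (inj (h2.trans h3.symm))
            | (rcases hy with h4 | h4 | h4 <;>
                first
                  | exact n3 (inj (h1.trans h4.symm))
                  | exact n5 (inj (h2.trans h4.symm))
                  | exact n6 (inj (h3.trans h4.symm)))
      · exact h2
    have hne : g * a * g⁻¹ ≠ g * d * g⁻¹ := fun hh =>
      hP.pt_injective.ne lanes_ne.1 (by simpa using hh)
    have hne' : g * b * g⁻¹ ≠ g * c * g⁻¹ := fun hh =>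
      hP.pt_injective.ne lanes_ne.2.2.2.2.2.1 (by simpa using hh)
    obtain ⟨t, ht, t1, t2⟩ := exists_triangle_move (hP.pt_sq laneL) (hP.pt_sq laneK) (hP.braid hna)
      h hd1 hne
    obtain ⟨s, hs, s1, s2⟩ := exists_triangle_move (hP.pt_sq laneB) (hP.pt_sq laneC) (hP.braid hnb)
      hb2.1 hb2.2 hne'
    have htT : t ∈ T := Subgroup.closure_mono (by
      rintro z (hz | hz)
      exacts [Or.inl hz, Or.inr (Or.inr (Or.inr hz))]) ht
    have hsT : s ∈ T := Subgroup.closure_mono (by
      rintro z (hz | hz)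
      exacts [Or.inr (Or.inl hz), Or.inr (Or.inr (Or.inl hz))]) hs
    have hts : ∀ z, z = b ∨ z = c → t * z * t⁻¹ = z := by
      intro z hz
      have hc' : t ∈ Subgroup.centralizer ({z} : Set G) := by
        refine (Subgroup.closure_le _).2 ?_ ht
        rintro w hw
        refine Subgroup.mem_centralizer_singleton_iff.2 ?_
        rcases hw with rfl | rfl <;> rcases hz with rfl | rfl
        exacts [hLB, hLC, hKB, hKC]
      rw [Subgroup.mem_centralizer_singleton_iff.1 hc']; group
    have hst : ∀ z, z = a ∨ z = d → s * z * s⁻¹ = z := by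
      intro z hz
      have hc' : s ∈ Subgroup.centralizer ({z} : Set G) := by
        refine (Subgroup.closure_le _).2 ?_ hs
        rintro w hw
        refine Subgroup.mem_centralizer_singleton_iff.2 ?_
        rcases hw with rfl | rfl <;> rcases hz with rfl | rfl
        exacts [hLB.symm, hKB.symm, hLC.symm, hKC.symm]
      rw [Subgroup.mem_centralizer_singleton_iff.1 hc']; group
    set k := (t * s)⁻¹ * g with hk
    have hkK : k ∈ kGroup e := by
      have fixk : ∀ z, t * s * z * (t * s)⁻¹ = g * z * g⁻¹ → k * z = z * k := by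
        intro z hz
        rw [hk]
        calc (t * s)⁻¹ * g * z = (t * s)⁻¹ * (g * z * g⁻¹) * g := by group
          _ = (t * s)⁻¹ * (t * s * z * (t * s)⁻¹) * g := by rw [hz]
          _ = _ := by group
      have eA : t * s * a * (t * s)⁻¹ = t * (s * a * s⁻¹) * t⁻¹ := by group
      have eD : t * s * d * (t * s)⁻¹ = t * (s * d * s⁻¹) * t⁻¹ := by group
      have eB : t * s * b * (t * s)⁻¹ = t * (s * b * s⁻¹) * t⁻¹ := by group
      have eC : t * s * c * (t * s)⁻¹ = t * (s * c * s⁻¹) * t⁻¹ := by group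
      have comm2 : ∀ z ∈ A2, t * z * t⁻¹ = z := by
        rintro z (rfl | rfl | rfl)
        · exact hts _ (Or.inl rfl)
        · exact hts _ (Or.inr rfl)
        · calc t * (b * c * b) * t⁻¹ = (t * b * t⁻¹) * (t * c * t⁻¹) * (t * b * t⁻¹) := by group
            _ = _ := by rw [hts _ (Or.inl rfl), hts _ (Or.inr rfl)]
      exact mem_kGroup.2 ⟨fixk a (by rw [eA, hst _ (Or.inl rfl), t1]),
        fixk d (by rw [eD, hst _ (Or.inr rfl), t2]),
        fixk b (by rw [eB, s1, comm2 _ hb2.1]), fixk c (by rw [eC, s2, comm2 _ hb2.2])⟩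
    have hgk : g = t * s * k := by rw [hk]; group
    have hkN : k ∈ N := mul_mem (inv_mem (mul_mem (hTN htT) (hTN hsT))) hg
    rw [hgk]
    exact mul_mem (mul_mem (Subgroup.mem_sup_right htT) (Subgroup.mem_sup_right hsT))
      (Subgroup.mem_sup_left ⟨hkK, hkN⟩)
  obtain ⟨g0, hg0, hg0a⟩ := hP.exists_swap hB hcB
  have hg0M : g0 ∉ M := fun h => hA12 (g0 * a * g0⁻¹) (hkeep g0 h).1 (Or.inl hg0a)
  refine Subgroup.index_eq_two_iff.2 ⟨⟨g0⁻¹, inv_mem hg0⟩, fun x => ?_⟩
  simp only [Subgroup.mem_subgroupOf, Subgroup.coe_mul]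
  by_cases hx : (x : G) ∈ M
  · refine Or.inr ⟨hx, fun h => hg0M (inv_inv g0 ▸ inv_mem ?_)⟩
    have := mul_mem (inv_mem hx) h
    simpa [mul_assoc] using this
  · refine Or.inl ⟨?_, hx⟩
    -- both lie in the other coset: `x⁻¹` and `g0` send `a` to the second block
    have hy : (x : G)⁻¹ * a * (x : G)⁻¹⁻¹ ∈ A2 := by
      rcases hsix _ (hP.normalizer_six hB hcB (inv_mem x.2) hamem) with h | h
      · exact absurd (inv_inv (x : G) ▸ inv_mem (hin _ (inv_mem x.2) h)) hx
      · exact h
    have hNg : (x : G) * g0⁻¹ ∈ N := mul_mem x.2 (inv_mem hg0)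
    rcases hsix _ (hP.normalizer_six hB hcB (inv_mem hNg) hamem) with h | h
    · exact inv_inv ((x : G) * g0⁻¹) ▸ inv_mem (hin _ (inv_mem hNg) h)
    · exfalso
      rw [mul_inv_rev, inv_inv] at h
      -- `g0` sends the second block to the first
      have hflip : ∀ z ∈ A2, g0 * z * g0⁻¹ ∈ A1 := by
        have hb1 : g0 * b * g0⁻¹ ∈ A1 ∧ g0 * c * g0⁻¹ ∈ A1 := by
          rcases hside hnb (hP.normalizer_six hB hcB hg0 hbmem) (hP.normalizer_six hB hcB hg0 hcmem) with
            hh | ⟨hx2, hy2⟩
          · exact hh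
          · exfalso
            obtain ⟨n1, n2, n3, n4, n5, n6, -, -⟩ := lanes_ne
            have inj : Function.Injective fun z : G => g0 * z * g0⁻¹ := fun u v huv => by simpa using huv
            have ha2 : g0 * a * g0⁻¹ ∈ A2 := by rw [hg0a]; exact Or.inl rfl
            have hd2 : g0 * d * g0⁻¹ ∈ A2 := by
              rcases hside hna (hP.normalizer_six hB hcB hg0 hamem)
                (hP.normalizer_six hB hcB hg0 hdmem) with ⟨h1, _⟩ | ⟨_, h2⟩
              exacts [(hA12 _ h1 ha2).elim, h2]
            rcases ha2 with h1 | h1 | h1 <;> rcases hd2 with h2 | h2 | h2 <;>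
              rcases hx2 with h3 | h3 | h3 <;>
              first
                | exact hP.pt_injective.ne n1 (inj (h1.trans h2.symm))
                | exact hP.pt_injective.ne n2 (inj (h1.trans h3.symm))
                | exact hP.pt_injective.ne n4 (inj (h2.trans h3.symm))
                | (rcases hy2 with h4 | h4 | h4 <;>
                    first
                      | exact hP.pt_injective.ne n3 (inj (h1.trans h4.symm))
                      | exact hP.pt_injective.ne n5 (inj (h2.trans h4.symm))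
                      | exact hP.pt_injective.ne n6 (inj (h3.trans h4.symm)))
        rintro z (rfl | rfl | rfl)
        · exact hb1.1
        · exact hb1.2
        · rcases hside (g := g0) (x := b) (y := b * c * b) (fun hc => hnb (by
              have h3 := ((Commute.refl b).mul_right hc).mul_right (Commute.refl b)
              rwa [show b * (b * c * b) * b = c by
                calc b * (b * c * b) * b = b * b * c * (b * b) := by group
                  _ = c := by rw [hP.pt_sq]; group] at h3))
            (hP.normalizer_six hB hcB hg0 hbmem)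
            (hP.normalizer_six hB hcB hg0 (Or.inr (Or.inr (Or.inr (Or.inr (Or.inr
              (by rw [Set.mem_singleton_iff, ← hBC, hbi])))))))
            with ⟨_, h2⟩ | ⟨h1, _⟩
          exacts [h2, (hA12 _ hb1.1 h1).elim]
      have := hflip _ hy
      exact hA12 _ this (by simpa [mul_assoc] using h)

/-- the conclusion for the two pairs -/
theorem thirteen_statement :
    ∃ (a b c d : G) (T K : Subgroup G), (∀ x ∈ [a, b, c, d], x ∈ D) ∧ ¬ Commute a d ∧ ¬ Commute b c ∧
      Commute a b ∧ Commute a c ∧ Commute d b ∧ Commute d c ∧ T = Subgroup.closure ({a, b, c, d} : Set G) ∧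
      K = Subgroup.centralizer (T : Set G) ∧ Nonempty (↥K ≃* ↥(Cfsg.Lie.chevG2.group (ZMod 3))) ∧
      ∀ B : Subgroup G, B ≤ K → Nat.card B = 13 →
        Subgroup.normalizer ((B : Subgroup G) : Set G) ≤ Subgroup.normalizer ((K : Subgroup G) : Set G) ∧
        Nat.card ↥(K ⊓ Subgroup.normalizer ((B : Subgroup G) : Set G)) = 78 ∧
        K ⊓ Subgroup.centralizer ((B : Subgroup G) : Set G) = B ∧
        (((K ⊓ Subgroup.normalizer ((B : Subgroup G) : Set G)) ⊔ T).subgroupOf
          (Subgroup.normalizer ((B : Subgroup G) : Set G))).index = 2 := by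
  obtain ⟨hLB, hLC, hKB, hKC, -, -⟩ := pt_relations e
  refine ⟨pt e laneL, pt e laneB, pt e laneC, pt e laneK, _, kGroup e, ?_, hP.not_commute_LK,
    hP.not_commute_BC, hLB, hLC, hKB, hKC, rfl, ?_, hP.kGroup_model.1, fun B hB hcB => ?_⟩
  · intro x hx
    simp only [List.mem_cons, List.not_mem_nil, or_false] at hx
    rcases hx with rfl | rfl | rfl | rfl <;> exact hP.pt_mem _
  · rw [Subgroup.centralizer_closure]
    refine congrArg Subgroup.centralizer ?_
    ext x
    simp only [Set.mem_insert_iff, Set.mem_singleton_iff]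
    tauto
  obtain ⟨h1, h2⟩ := hP.kGroup_thirteen hB hcB
  refine ⟨fun g hg => ?_, h2, h1, hP.index_two hB hcB⟩
  refine Subgroup.mem_normalizer_fintype fun k hk => mem_kGroup.2 ?_
  have hmove : ∀ y ∈ six e, g * k * g⁻¹ * y = y * (g * k * g⁻¹) := by
    intro y hy
    have h := hP.six_comm hk (hP.normalizer_six hB hcB (inv_mem hg) hy)
    rw [inv_inv] at h
    calc g * k * g⁻¹ * y = g * (k * (g⁻¹ * y * g)) * g⁻¹ := by group
      _ = g * (g⁻¹ * y * g * k) * g⁻¹ := by rw [h.eq]
      _ = y * (g * k * g⁻¹) := by group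
  exact ⟨hmove _ (Or.inl rfl), hmove _ (Or.inr (Or.inl rfl)),
    hmove _ (Or.inr (Or.inr (Or.inr (Or.inl rfl)))),
    hmove _ (Or.inr (Or.inr (Or.inr (Or.inr (Or.inl rfl)))))⟩

end Par

end Cfsg.Agent.Lib.Fi24Thirteen
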