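import Cfsg.Agent.Lib.CosetTable.Lanes.Fi24.Cosets
import Cfsg.Agent.Lib.M24Struct51.Order

/-!
The lanes of the presented Fi24 as the transpositions of a group of type M(24), given an isomorphism
sending the generator `l` into the class.
-/

set_option autoImplicit false

namespace Cfsg.Agent.Lib.Fi24Thirteen

open Cfsg Cfsg.Agent.Lib.CosetTable.Lanes
open Cfsg.Agent.Lib.M22Struct66 (nb com2)

universe u

variable {G : Type u} [Group G] [Finite G] {D : Set G}

/-- A type M(24) group with an identification with the presented Fi24. -/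
structure Par (D : Set G) (e : Cfsg.Spor.Fi24 ≃* G) : Prop where
  ctx : M24Struct51.Ctx D
  mem : e (Fi24.gn 0) ∈ D

theorem phi_pw : ∀ {w : List ℕ}, (∀ g ∈ w, g < 12) →
    Fi24.phi (pw Fi24.gn w) = pw Fi24.perm w
  | [], _ => map_one _
  | g :: w, h => by
    rw [pw_cons, pw_cons, map_mul, phi_pw (fun x hx => h x (List.mem_cons_of_mem _ hx)),
      Fi24.phi_gn (h g List.mem_cons_self)]

theorem gn_zero_comm {x : Cfsg.Spor.Fi24} (hx : x ∈ Fi24.sub) : Commute x (Fi24.gn 0) := by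
  have hle : Fi24.sub ≤ Subgroup.centralizer ({Fi24.gn 0} : Set Cfsg.Spor.Fi24) := by
    refine (Subgroup.closure_le _).2 ?_
    rintro _ ⟨g, ⟨hg, hg1⟩, rfl⟩
    refine Subgroup.mem_centralizer_singleton_iff.2 (Fi24.gn_comm g 0 ?_)
    have key : ∀ g < 12, g ≠ 1 → Fi24.commB g 0 = true := by decide
    exact key g hg hg1
  exact Subgroup.mem_centralizer_singleton_iff.1 (hle hx)

namespace Par

variable {e : Cfsg.Spor.Fi24 ≃* G} (hP : Par D e)
include hP

theorem conj_mem (g : G) {d : G} (hd : d ∈ D) : g * d * g⁻¹ ∈ D := hP.ctx.conj g d hd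

theorem exists_conj {d : G} (hd : d ∈ D) : ∃ g : G, g * e (Fi24.gn 0) * g⁻¹ = d :=
  hP.ctx.prim.1 _ hP.mem d hd

/-- the centraliser of `l` is the point stabiliser -/
theorem mem_sub_of_commute {x : Cfsg.Spor.Fi24} (hx : Commute x (Fi24.gn 0)) : x ∈ Fi24.sub := by
  have hle : Fi24.sub.map e.toMonoidHom ≤ Subgroup.centralizer ({e (Fi24.gn 0)} : Set G) := by
    rintro _ ⟨y, hy, rfl⟩
    exact Subgroup.mem_centralizer_singleton_iff.2 ((gn_zero_comm hy).map e).eq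
  have hindex : (Fi24.sub.map e.toMonoidHom).index = 306936 :=
    (Subgroup.index_map_of_bijective e.bijective _).trans Fi24.index_sub
  have hc := (Fi24.sub.map e.toMonoidHom).index_mul_card
  rw [hindex, hP.ctx.card_G] at hc
  have heq := Subgroup.eq_of_le_of_card_ge hle
    (by rw [hP.ctx.card_centralizer hP.mem]; omega)
  have hmem : e x ∈ Fi24.sub.map e.toMonoidHom :=
    heq ▸ Subgroup.mem_centralizer_singleton_iff.2 (hx.map e).eq
  obtain ⟨y, hy, hxy⟩ := hmem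
  rwa [← e.injective hxy]

omit hP

/-- the transposition on lane `i` -/
noncomputable def _root_.Cfsg.Agent.Lib.Fi24Thirteen.pt (e : Cfsg.Spor.Fi24 ≃* G) (i : Fin Fi24.sys.size) : G :=
  e ((Fi24.reach i).choose * Fi24.gn 0 * (Fi24.reach i).choose⁻¹)

omit [Finite G] in
/-- lanes and conjugates of `l` agree -/
theorem pt_phi (x : Cfsg.Spor.Fi24) :
    pt e (Fi24.phi x Fi24.pt) = e (x * Fi24.gn 0 * x⁻¹) := by
  set y := (Fi24.reach (Fi24.phi x Fi24.pt)).choose with hy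
  have hy' : Fi24.phi y Fi24.pt = Fi24.phi x Fi24.pt := (Fi24.reach _).choose_spec
  have hmem : x⁻¹ * y ∈ Fi24.sub :=
    (QuotientGroup.eq.1 (Fi24.lane_bijective.injective (a₁ := (x : Cfsg.Spor.Fi24 ⧸ Fi24.sub))
      (a₂ := (y : Cfsg.Spor.Fi24 ⧸ Fi24.sub)) (by rw [Fi24.lane_mk, Fi24.lane_mk, hy'])))
  have hc := (gn_zero_comm hmem).eq
  show e (y * Fi24.gn 0 * y⁻¹) = _
  refine congrArg e ?_
  calc y * Fi24.gn 0 * y⁻¹ = x * (x⁻¹ * y * Fi24.gn 0) * y⁻¹ := by group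
    _ = x * (Fi24.gn 0 * (x⁻¹ * y)) * y⁻¹ := by rw [hc]
    _ = x * Fi24.gn 0 * x⁻¹ := by group

omit [Finite G] in
theorem pt_base : pt e Fi24.pt = e (Fi24.gn 0) := by
  simpa using pt_phi (e := e) 1

omit [Finite G] in
theorem conj_pt (x : Cfsg.Spor.Fi24) (i : Fin Fi24.sys.size) :
    e x * pt e i * (e x)⁻¹ = pt e (Fi24.phi x i) := by
  obtain ⟨y, rfl⟩ := Fi24.reach i
  rw [← Equiv.Perm.mul_apply, ← map_mul, pt_phi, pt_phi]
  simp only [map_mul, map_inv]
  group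

include hP

theorem pt_mem (i : Fin Fi24.sys.size) : pt e i ∈ D := by
  obtain ⟨y, rfl⟩ := Fi24.reach i
  rw [pt_phi, map_mul, map_mul, map_inv]
  exact hP.conj_mem _ hP.mem

theorem exists_pt {d : G} (hd : d ∈ D) : ∃ i, pt e i = d := by
  obtain ⟨g, rfl⟩ := hP.exists_conj hd
  refine ⟨Fi24.phi (e.symm g) Fi24.pt, ?_⟩
  rw [pt_phi, map_mul, map_mul, map_inv, e.apply_symm_apply]

theorem pt_injective : Function.Injective (pt e) := by
  intro i j h
  obtain ⟨x, rfl⟩ := Fi24.reach i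
  obtain ⟨y, rfl⟩ := Fi24.reach j
  rw [pt_phi, pt_phi] at h
  replace h := e.injective h
  have hs : x⁻¹ * y ∈ Fi24.sub := hP.mem_sub_of_commute (by
    show x⁻¹ * y * Fi24.gn 0 = Fi24.gn 0 * (x⁻¹ * y)
    calc x⁻¹ * y * Fi24.gn 0 = x⁻¹ * (y * Fi24.gn 0 * y⁻¹) * y := by group
      _ = x⁻¹ * (x * Fi24.gn 0 * x⁻¹) * y := by rw [h]
      _ = Fi24.gn 0 * (x⁻¹ * y) := by group)
  have hq : (x : Cfsg.Spor.Fi24 ⧸ Fi24.sub) = y := QuotientGroup.eq.2 hs
  simpa [Fi24.lane_mk] using congrArg Fi24.lane hq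

theorem commute_iff {x : Cfsg.Spor.Fi24} {i : Fin Fi24.sys.size} :
    Commute (e x) (pt e i) ↔ Fi24.phi x i = i := by
  rw [← hP.pt_injective.eq_iff, ← conj_pt, mul_inv_eq_iff_eq_mul]
  rfl

end Par

end Cfsg.Agent.Lib.Fi24Thirteen
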